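import Cfsg.Agent.S2553

/-!
`GL(3,2)` is `PSL(3,2)`.
-/

set_option autoImplicit false

namespace Cfsg.Agent.Lib.RankFive

theorem gl_three_psl :
    Nonempty (GL (Fin 3) (ZMod 2) ≃* Matrix.ProjectiveSpecialLinearGroup (Fin 3) (ZMod 2)) := by
  haveI : Fact (Nat.Prime 2) := ⟨Nat.prime_two⟩
  have hsurj : Function.Surjective (Matrix.SpecialLinearGroup.toGL :
      Matrix.SpecialLinearGroup (Fin 3) (ZMod 2) → GL (Fin 3) (ZMod 2)) := by
    intro g
    have h1 : (g : Matrix (Fin 3) (Fin 3) (ZMod 2)).det = 1 := by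
      exact S2553.zmod2_key1 _ g.det.ne_zero
    exact ⟨⟨g, h1⟩, Units.ext rfl⟩
  have hc : Subgroup.center (Matrix.SpecialLinearGroup (Fin 3) (ZMod 2)) = ⊥ := by
    rw [eq_bot_iff]
    intro x hx
    obtain ⟨r, hr, hr'⟩ := Matrix.SpecialLinearGroup.mem_center_iff.1 hx
    rw [Fintype.card_fin] at hr
    rw [S2553.zmod2_key3 r hr] at hr'
    exact Subgroup.mem_bot.2 (Subtype.ext (hr'.symm.trans (by simp)))
  exact ⟨(MulEquiv.ofBijective Matrix.SpecialLinearGroup.toGL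
      ⟨Matrix.SpecialLinearGroup.toGL_injective, hsurj⟩).symm.trans
      ((QuotientGroup.quotientBot).symm.trans (QuotientGroup.quotientMulEquivOfEq hc.symm))⟩

end Cfsg.Agent.Lib.RankFive
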