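import Cfsg.Agent.Lib.SubgroupsA8
import Cfsg.Agent.Lib.Spectrum.SL25Recognition

/-!
Non-solvable subgroups of `A₈` with a non-trivial normal subgroup of odd order.
-/

set_option autoImplicit false

namespace Cfsg.Agent.Lib.RankFive

open Equiv Equiv.Perm

theorem solvable_of_dvd_315 {R : Type*} [Group R] [Finite R] (h : Nat.card R ∣ 315) : Group.IsSolvable R := by
  classical
  haveI : Fact (Nat.Prime 5) := ⟨Nat.prime_five⟩
  by_cases h5 : 5 ∣ Nat.card R
  swap
  · exact SubgroupsA8.isSolvable_of_dvd (a := 2) (b := 1) Nat.prime_three (show Nat.Prime 7 by norm_num)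
      (((Nat.prime_five.coprime_iff_not_dvd).2 h5).symm.dvd_of_dvd_mul_left
        (show Nat.card R ∣ 5 * (3 ^ 2 * 7 ^ 1) from h))
  obtain ⟨P⟩ : Nonempty (Sylow 5 R) := inferInstance
  have hP : Nat.card P = 5 := by
    obtain ⟨k, hk⟩ := IsPGroup.iff_card.1 P.isPGroup'
    have hk0 : k ≠ 0 := by
      rintro rfl
      rw [pow_zero] at hk
      exact P.ne_bot_of_dvd_card h5 (Subgroup.card_eq_one.1 hk)
    have h1 : 5 ^ k ∣ 315 := hk ▸ ((Subgroup.card_subgroup_dvd_card _).trans h)
    have hk2 : k < 2 := by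
      by_contra hh
      have : 5 ^ 2 ∣ 315 := (pow_dvd_pow 5 (by omega)).trans h1
      norm_num at this
    rw [hk, show k = 1 by omega, pow_one]
  haveI : IsCyclic (P : Subgroup R) := isCyclic_of_prime_card (α := (P : Subgroup R)) hP
  have hc : Subgroup.normalizer ((P : Subgroup R) : Set R) ≤ Subgroup.centralizer ((P : Subgroup R) : Set R) := by
    set N := Subgroup.normalizer ((P : Subgroup R) : Set R)
    let F := Subgroup.normalizerMonoidHom (P : Subgroup R)
    have h4 : Nat.card F.range ∣ 4 := by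
      refine (Subgroup.card_subgroup_dvd_card _).trans ?_
      rw [IsCyclic.card_mulAut, hP]
      decide
    have hodd : Nat.card F.range ∣ 315 :=
      ((Subgroup.card_range_dvd F).trans (Subgroup.card_subgroup_dvd_card _)).trans h
    have h1 : Nat.card F.range = 1 := Nat.eq_one_of_dvd_coprimes (show Nat.Coprime 4 315 by decide) h4 hodd
    intro x hx
    have hx' : (⟨x, hx⟩ : N) ∈ F.ker := by
      rw [MonoidHom.mem_ker]
      exact Subgroup.mem_bot.1 (Subgroup.card_eq_one.1 h1 ▸ ⟨_, rfl⟩)
    rw [Subgroup.normalizerMonoidHom_ker] at hx'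
    exact hx'
  have hK := MonoidHom.ker_transferSylow_isComplement' P hc
  set K := (MonoidHom.transferSylow P hc).ker
  have hcard := hK.card_mul_card
  rw [hP] at hcard
  haveI : Group.IsSolvable K := by
    refine SubgroupsA8.isSolvable_of_dvd (a := 2) (b := 1) Nat.prime_three (show Nat.Prime 7 by norm_num) ?_
    obtain ⟨c, hc'⟩ := h
    rw [← hcard] at hc'
    exact ⟨c, by norm_num; nlinarith⟩
  haveI : Group.IsSolvable (R ⧸ K) := Spectrum.isSolvable_of_card_lt_sixty _ (show Nat.card (R ⧸ K) = 5 by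
    have h1 := K.card_mul_index
    rw [← hcard] at h1
    exact Nat.eq_of_mul_eq_mul_left Nat.card_pos h1) (by norm_num)
  exact Spectrum.isSolvable_iff_of_normal K

/-- the structure -/
theorem odd_core {H : Type*} [Group H] [Finite H] (hns : ¬ Group.IsSolvable H)
    (f : H →* alternatingGroup (Fin 8)) (hf : Function.Injective f) (hO : Cfsg.pPrimeCore 2 H ≠ ⊥) :
    Nat.card (Cfsg.pCore 3 H) = 3 ∧
      (Nonempty (H ⧸ Cfsg.pCore 3 H ≃* alternatingGroup (Fin 5)) ∨
        Nonempty (H ⧸ Cfsg.pCore 3 H ≃* Perm (Fin 5))) := by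
  classical
  haveI : Fact (Nat.Prime 2) := ⟨Nat.prime_two⟩
  let φ : H →* Perm (Fin 8) := (alternatingGroup (Fin 8)).subtype.comp f
  have hφ : Function.Injective φ := (Subgroup.subtype_injective _).comp hf
  have hH : Nat.card H ∣ 20160 := by
    refine (Subgroup.card_dvd_of_injective f hf).trans (dvd_of_eq ?_)
    rw [nat_card_alternatingGroup, Nat.card_fin]
    decide
  -- a non-trivial `O_q`
  set R := Cfsg.pPrimeCore 2 H
  have hR : Nat.card R ∣ 315 :=
    (Nat.Coprime.pow_right 6 (Cores.pPrimeCore_coprime (G := H) 2)).dvd_of_dvd_mul_left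
      (((Subgroup.card_subgroup_dvd_card R).trans hH).trans (dvd_of_eq (by norm_num)))
  haveI : Group.IsSolvable R := solvable_of_dvd_315 hR
  haveI : Nontrivial R := (Subgroup.nontrivial_iff_ne_bot R).2 hO
  obtain ⟨q, hq, hqR⟩ : ∃ q, q.Prime ∧ Cfsg.pCore q R ≠ ⊥ := by
    by_contra hcon
    push Not at hcon
    refine Cores.fittingSubgroup_ne_bot (G := R) ?_
    rw [Cores.fittingSubgroup_eq_iSup_pCore]
    refine le_bot_iff.1 (iSup_le fun p => ?_)
    first
      | exact (hcon _ p.2).le
      | exact iSup_le fun hp => (hcon _ (by first | exact hp | exact hp.1)).le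
  haveI := Fact.mk hq
  have hq' : q ∣ 315 := by
    obtain ⟨j, hj⟩ := IsPGroup.iff_card.1 (Cores.pCore_isPGroup (G := R) q)
    have hj0 : j ≠ 0 := by rintro rfl; rw [pow_zero] at hj; exact hqR (Subgroup.card_eq_one.1 hj)
    exact ((dvd_pow_self q hj0).trans (hj ▸ Subgroup.card_subgroup_dvd_card _)).trans hR
  set V := Cfsg.pCore q H with hV
  have hV1 : V ≠ ⊥ := by
    intro h
    have h1 := Cores.map_subtype_pCore q R
    rw [← hV, h, inf_bot_eq] at h1
    exact hqR ((Subgroup.map_eq_bot_iff_of_injective _ R.subtype_injective).1 h1)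
  obtain ⟨j, hj⟩ := IsPGroup.iff_card.1 (Cores.pCore_isPGroup (G := H) q)
  rw [← hV] at hj
  have hj0 : j ≠ 0 := by rintro rfl; rw [pow_zero] at hj; exact hV1 (Subgroup.card_eq_one.1 hj)
  have hjd : q ^ j ∣ 20160 := hj ▸ ((Subgroup.card_subgroup_dvd_card V).trans hH)
  have hq3 : q = 3 ∨ q = 5 ∨ q = 7 := by
    have h1 : q ∣ 3 * 3 * (5 * 7) := hq'
    rcases hq.dvd_mul.1 h1 with h | h <;> rcases hq.dvd_mul.1 h with h | h
    · exact Or.inl ((Nat.prime_dvd_prime_iff_eq hq Nat.prime_three).1 h)
    · exact Or.inl ((Nat.prime_dvd_prime_iff_eq hq Nat.prime_three).1 h)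
    · exact Or.inr (Or.inl ((Nat.prime_dvd_prime_iff_eq hq Nat.prime_five).1 h))
    · exact Or.inr (Or.inr ((Nat.prime_dvd_prime_iff_eq hq (by norm_num)).1 h))
  have hnormV : ∀ (V : Subgroup H) [V.Normal] (p : ℕ) [Fact p.Prime], p ≠ 2 → p ≤ 8 → 8 < 2 * p →
      Nat.card V = p → 2 * Nat.card H ∣ p * (p - 1) * (8 - p).factorial := by
    intro V hVn p _ h2 h8 h16 hc
    have h1 := SubgroupsA8.card_normalizer_alt h8 h16 h2 (V.map f)
      (by rw [Subgroup.card_map_of_injective hf, hc])
    refine (Nat.mul_dvd_mul_left 2 ?_).trans h1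
    have h3 := Subgroup.card_dvd_of_le (Subgroup.le_normalizer_map (H := V) f)
    rwa [Subgroup.card_map_of_injective hf, Subgroup.normalizer_eq_top, Subgroup.card_top] at h3
  have hbig : ∀ p, p = 5 ∨ p = 7 → q ≠ p := by
    rintro p hp rfl
    have hj1 : j = 1 := by
      by_contra hh
      have h2 : q ^ 2 ∣ 20160 := (pow_dvd_pow q (by omega)).trans hjd
      rcases hp with rfl | rfl <;> norm_num at h2
    rw [hj1, pow_one] at hj
    have h1 := hnormV V q (by omega) (by omega) (by omega) hj
    have hle : Nat.card H ≤ 60 := by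
      have : 2 * Nat.card H ≤ q * (q - 1) * (8 - q).factorial := Nat.le_of_dvd (by
        rcases hp with rfl | rfl <;> decide) h1
      rcases hp with rfl | rfl <;> norm_num [Nat.factorial] at this <;> omega
    haveI : Group.IsSolvable V := by
      haveI := isCyclic_of_prime_card (α := V) hj
      exact Group.isSolvable_of_comm fun a b => (IsCyclic.isMulCommutative).is_comm.comm a b
    haveI : Group.IsSolvable (H ⧸ V) := by
      refine Spectrum.isSolvable_of_card_lt_sixty _ rfl ?_
      have h2 := V.card_mul_index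
      rw [← Subgroup.index_eq_card]
      rw [hj] at h2
      rcases hp with rfl | rfl <;> omega
    exact hns (Spectrum.isSolvable_iff_of_normal V)
  have hq3' : q = 3 := by
    rcases hq3 with h | h | h
    · exact h
    · exact absurd h (hbig 5 (Or.inl rfl))
    · exact absurd h (hbig 7 (Or.inr rfl))
  subst hq3'
  -- an element of order 5 or 7
  obtain ⟨p, hp57, hpd⟩ : ∃ p, (p = 5 ∨ p = 7) ∧ p ∣ Nat.card H := by
    by_contra hcon
    push Not at hcon
    refine hns (SubgroupsA8.isSolvable_of_dvd (a := 6) (b := 2) Nat.prime_two Nat.prime_three ?_)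
    have h1 := ((Nat.prime_five.coprime_iff_not_dvd).2 (hcon 5 (Or.inl rfl))).symm.dvd_of_dvd_mul_left
      (show Nat.card H ∣ 5 * (7 * (2 ^ 6 * 3 ^ 2)) from hH)
    exact ((Nat.Prime.coprime_iff_not_dvd (show Nat.Prime 7 by norm_num)).2
      (hcon 7 (Or.inr rfl))).symm.dvd_of_dvd_mul_left h1
  have hpp : p.Prime := by rcases hp57 with rfl | rfl <;> norm_num
  haveI := Fact.mk hpp
  obtain ⟨g, hg⟩ := exists_prime_orderOf_dvd_card' p hpd
  have hj2 : j ≤ 2 := by
    by_contra hh
    have : 3 ^ 3 ∣ 20160 := (pow_dvd_pow 3 (by omega)).trans hjd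
    norm_num at this
  -- it centralises `V`
  have hcent : ∀ v ∈ V, g * v = v * g := by
    let P := Subgroup.zpowers g
    letI : MulAction P V := MulAction.compHom V (MulAut.conjNormal.comp P.subtype : P →* MulAut V)
    have hPp : IsPGroup p P := IsPGroup.of_card (n := 1) (by rw [Nat.card_zpowers, hg, pow_one])
    have hmod := hPp.card_modEq_card_fixedPoints V
    let C := V ⊓ Subgroup.centralizer ({g} : Set H)
    have hC : Nat.card (MulAction.fixedPoints P V) = Nat.card C := by
      refine Nat.card_congr ?_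
      exact
        { toFun := fun x => ⟨x.1.1, x.1.2, Subgroup.mem_centralizer_singleton_iff.2 (by
            have h := congrArg Subtype.val (x.2 ⟨g, Subgroup.mem_zpowers g⟩)
            change g * (x.1 : H) * g⁻¹ = x.1 at h
            exact (mul_inv_eq_iff_eq_mul.1 h).symm)⟩
          invFun := fun x => ⟨⟨x.1, x.2.1⟩, fun y => by
            apply Subtype.ext
            show (y : H) * x.1 * (y : H)⁻¹ = x.1
            obtain ⟨y, hy⟩ := y
            obtain ⟨i, rfl⟩ := Subgroup.mem_zpowers_iff.1 hy
            have h : Commute g x.1 := (Subgroup.mem_centralizer_singleton_iff.1 x.2.2).symm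
            exact mul_inv_eq_of_eq_mul (h.zpow_left i)⟩
          left_inv := fun x => rfl
          right_inv := fun x => rfl }
    rw [hC, hj, Nat.ModEq] at hmod
    obtain ⟨i, hi, hCi⟩ := (Nat.dvd_prime_pow Nat.prime_three).1
      (hj ▸ Subgroup.card_dvd_of_le (show C ≤ V from inf_le_left))
    have hij : i = j := by
      rw [hCi] at hmod
      rcases hp57 with rfl | rfl <;> interval_cases j <;> interval_cases i <;> norm_num at hmod <;> omega
    have hCV : C = V := Subgroup.eq_of_le_of_card_ge inf_le_left (by rw [hCi, hij, hj])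
    intro v hv
    exact (Subgroup.mem_centralizer_singleton_iff.1 (hCV ▸ hv : v ∈ C).2).symm
  -- `|V| = 3`
  have hV3 : Nat.card V = 3 := by
    by_contra hne
    have hj9 : j = 2 := by
      interval_cases j
      · omega
      · exact absurd hj (by rw [pow_one]; exact hne)
      · rfl
    subst hj9
    set Q := (Subgroup.zpowers g).map f
    have hle : V.map f ≤ Subgroup.normalizer (Q : Set (alternatingGroup (Fin 8))) := by
      refine le_trans (Subgroup.map_mono ?_) (Subgroup.le_normalizer_map f)
      refine le_trans ?_ (Subgroup.centralizer_le_normalizer _)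
      intro v hv
      rw [Subgroup.mem_centralizer_iff]
      intro y hy
      obtain ⟨i, rfl⟩ := Subgroup.mem_zpowers_iff.1 hy
      exact (show Commute g v from hcent v hv).zpow_left i
    have h1 := SubgroupsA8.card_normalizer_alt (n := 8) (p := p) (by omega) (by omega) (by omega) Q
      (by rw [Subgroup.card_map_of_injective hf, Nat.card_zpowers, hg])
    have h2 := (Nat.mul_dvd_mul_left 2 (Subgroup.card_dvd_of_le hle)).trans h1
    rw [Subgroup.card_map_of_injective hf, hj] at h2
    rcases hp57 with rfl | rfl <;> norm_num [Nat.factorial] at h2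
  refine ⟨hV3, ?_⟩
  obtain ⟨a, ha⟩ := exists_prime_orderOf_dvd_card' (G := V) 3 (by rw [hV3])
  have hao : orderOf (φ (a : H)) = 3 := by
    rw [orderOf_injective φ hφ, Subgroup.orderOf_coe, ha]
  have hgo : orderOf (φ g) = p := by rw [orderOf_injective φ hφ, hg]
  have hgc : (φ g).IsCycle :=
    Equiv.Perm.isCycle_of_prime_order' (by rw [hgo]; exact hpp) (by rw [hgo, Fintype.card_fin]; omega)
  have hgs : (φ g).support.card = p := by rw [← hgc.orderOf, hgo]
  have hag : Commute (φ (a : H)) (φ g) := (show Commute g (a : H) from hcent _ a.2).symm.map φ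
  set T := (φ (a : H)).support with hT
  have hTg : Disjoint T (φ g).support := by
    rw [Finset.disjoint_right]
    intro x hx
    rw [hT, Equiv.Perm.mem_support, not_not]
    have hax : φ (a : H) x ∈ (φ g).support := by
      rw [Equiv.Perm.mem_support] at hx ⊢
      intro h
      have h1 : φ (a : H) (φ g x) = φ (a : H) x := by
        have := DFunLike.congr_fun hag.eq x
        rw [Equiv.Perm.mul_apply, Equiv.Perm.mul_apply] at this
        rw [this, h]
      exact hx ((φ (a : H)).injective h1)
    obtain ⟨i, hi⟩ := hgc.exists_pow_eq (Equiv.Perm.mem_support.1 hx) (Equiv.Perm.mem_support.1 hax)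
    have key : ∀ n : ℕ, ((φ (a : H)) ^ n) x = (φ g ^ (i * n)) x := by
      intro n
      induction n with
      | zero => simp
      | succ n ih =>
        rw [pow_succ', Equiv.Perm.mul_apply, ih]
        have hc : φ (a : H) ((φ g ^ (i * n)) x) = (φ g ^ (i * n)) (φ (a : H) x) :=
          DFunLike.congr_fun (hag.pow_right (i * n)).eq x
        rw [hc, ← hi, ← Equiv.Perm.mul_apply, ← pow_add, Nat.mul_succ]
    have h3 := key 3
    rw [← hao, pow_orderOf_eq_one, Equiv.Perm.one_apply, hao] at h3
    have h4 : φ g ^ (i * 3) = 1 :=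
      (hgc.pow_eq_one_iff' (Equiv.Perm.mem_support.1 hx)).2 h3.symm
    have h5 : p ∣ i * 3 := hgo ▸ orderOf_dvd_of_pow_eq_one h4
    have h6 : p ∣ i := (hpp.dvd_mul.1 h5).resolve_right fun h => by
      have := Nat.le_of_dvd (by norm_num) h; omega
    obtain ⟨c, rfl⟩ := h6
    rw [← hi, pow_mul, ← hgo, pow_orderOf_eq_one, one_pow, Equiv.Perm.one_apply]
  have hT3 : T.card = 3 := by
    have h1 : T.card + (φ g).support.card ≤ 8 := by
      rw [← Finset.card_union_of_disjoint hTg]
      exact (Finset.card_le_univ _).trans (by simp)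
    have hne : φ (a : H) ≠ 1 := fun h => by rw [h, orderOf_one] at hao; norm_num at hao
    have h2 := Equiv.Perm.two_le_card_support_of_ne_one hne
    have h2' : T.card ≠ 2 := by
      intro h
      obtain ⟨x, y, hxy, hs⟩ := Equiv.Perm.card_support_eq_two.1 h
      rw [hs] at hao
      have := orderOf_dvd_of_pow_eq_one (show (swap x y) ^ 2 = 1 by rw [pow_two, swap_mul_self])
      rw [hao] at this
      norm_num at this
    rw [← hT] at h2
    omega
  -- `T` is invariant
  have hinv : ∀ (h : H) (x : Fin 8), φ h x ∈ T ↔ x ∈ T := by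
    have h1 : ∀ (h : H) (x : Fin 8), x ∈ T → φ h x ∈ T := by
      intro h x hx
      have hmem : h * a * h⁻¹ ∈ V := (inferInstance : V.Normal).conj_mem _ a.2 h
      have hz : (Subgroup.zpowers a : Subgroup V) = ⊤ :=
        Subgroup.eq_top_of_card_eq _ (by rw [Nat.card_zpowers, ha, hV3])
      obtain ⟨i, hi⟩ := Subgroup.mem_zpowers_iff.1 (hz ▸ Subgroup.mem_top (⟨_, hmem⟩ : V))
      have hi' : φ (h * a * h⁻¹) = φ (a : H) ^ i := by
        rw [← map_zpow, ← Subgroup.coe_zpow, hi]
      by_contra hn
      have h2 : (φ (a : H) ^ i) (φ h x) = φ h x :=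
        Equiv.Perm.zpow_apply_eq_self_of_apply_eq_self (by rwa [hT, Equiv.Perm.mem_support, not_not] at hn) i
      rw [← hi', map_mul, map_mul, map_inv, Equiv.Perm.mul_apply, Equiv.Perm.mul_apply,
        Equiv.Perm.coe_inv, Equiv.symm_apply_apply] at h2
      rw [hT, Equiv.Perm.mem_support] at hx
      exact hx ((φ h).injective h2)
    intro h x
    refine ⟨fun hx => ?_, h1 h x⟩
    have := h1 h⁻¹ _ hx
    rwa [map_inv, Equiv.Perm.coe_inv, Equiv.symm_apply_apply] at this
  let π : H →* Perm {x : Fin 8 // x ∉ T} :=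
    { toFun := fun h => (φ h).subtypePerm fun x => not_congr (hinv h x)
      map_one' := by ext x; simp
      map_mul' := fun g h => Equiv.ext fun x => Subtype.ext (by rw [Equiv.Perm.mul_apply]; simp) }
  have hVk : V ≤ π.ker := by
    intro v hv
    obtain ⟨i, hi⟩ := Subgroup.mem_zpowers_iff.1
      ((Subgroup.eq_top_of_card_eq (Subgroup.zpowers a) (by rw [Nat.card_zpowers, ha, hV3])) ▸
        Subgroup.mem_top (⟨v, hv⟩ : V))
    have hi' : v = (a : H) ^ i := by rw [← Subgroup.coe_zpow, hi]
    rw [MonoidHom.mem_ker]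
    ext x
    show ((φ v) x.1 : ℕ) = _
    rw [hi', map_zpow, Equiv.Perm.zpow_apply_eq_self_of_apply_eq_self
      (by simpa [hT, Equiv.Perm.mem_support] using x.2) i]
    rfl
  have hker : π.ker = V := by
    refine (Subgroup.eq_of_le_of_card_ge hVk ?_).symm
    rw [hV3]
    -- the kernel is odd and acts faithfully on `T`
    let r : π.ker →* Perm {x : Fin 8 // x ∈ T} :=
      { toFun := fun h => (φ (h : H)).subtypePerm fun x => hinv _ x
        map_one' := by ext x; simp
        map_mul' := fun g h => Equiv.ext fun x => Subtype.ext (by rw [Equiv.Perm.mul_apply]; simp) }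
    have hfix : ∀ (h : π.ker) (x : Fin 8), x ∉ T → φ (h : H) x = x := fun h x hx =>
      congrArg Subtype.val (Equiv.congr_fun (MonoidHom.mem_ker.1 h.2) ⟨x, hx⟩)
    have hr : Function.Injective r := by
      intro g h e
      refine Subtype.ext (hφ (Equiv.ext fun x => ?_))
      by_cases hx : x ∈ T
      · exact congrArg Subtype.val (Equiv.congr_fun e ⟨x, hx⟩)
      · rw [hfix g x hx, hfix h x hx]
    have h6 : Nat.card π.ker ∣ 3 * 2 := by
      refine (Subgroup.card_dvd_of_injective r hr).trans (dvd_of_eq ?_)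
      rw [Nat.card_perm, Nat.card_eq_fintype_card, Fintype.card_coe, hT3]
      rfl
    have h2 : ¬ 2 ∣ Nat.card π.ker := by
      intro h2
      obtain ⟨k, hk⟩ := exists_prime_orderOf_dvd_card' (G := π.ker) 2 h2
      have hks : (φ (k : H)).support ⊆ T := fun x hx => by
        by_contra hn
        exact Equiv.Perm.mem_support.1 hx (hfix k x hn)
      have hko : orderOf (φ (k : H)) = 2 := by rw [orderOf_injective φ hφ, Subgroup.orderOf_coe, hk]
      have hdvd : 2 ∣ (φ (k : H)).support.card := by
        rw [← Equiv.Perm.sum_cycleType]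
        refine Multiset.dvd_sum fun n hn => ?_
        have h3 := Equiv.Perm.dvd_of_mem_cycleType hn
        rw [hko] at h3
        have := Equiv.Perm.two_le_of_mem_cycleType hn
        rw [le_antisymm (Nat.le_of_dvd two_pos h3) this]
      have hne : φ (k : H) ≠ 1 := fun h => by rw [h, orderOf_one] at hko; norm_num at hko
      have h3 := Equiv.Perm.two_le_card_support_of_ne_one hne
      have h4 := (Finset.card_le_card hks).trans_eq hT3
      obtain ⟨x, y, hxy, hs⟩ := Equiv.Perm.card_support_eq_two.1 (show (φ (k : H)).support.card = 2 by omega)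
      have h5 : Equiv.Perm.sign (φ (k : H)) = 1 := Equiv.Perm.mem_alternatingGroup.1 (f (k : H)).2
      rw [hs, Equiv.Perm.sign_swap hxy] at h5
      exact absurd h5 (by decide)
    exact Nat.le_of_dvd (by norm_num)
      (((Nat.prime_two.coprime_iff_not_dvd).2 h2).symm.dvd_of_dvd_mul_right h6)
  let e : H ⧸ V ≃* π.range := (QuotientGroup.quotientMulEquivOfEq hker.symm).trans
    (QuotientGroup.quotientKerEquivRange π)
  have hT5 : Nat.card {x : Fin 8 // x ∉ T} = 5 := by
    rw [Nat.card_eq_fintype_card, Fintype.card_subtype_compl, Fintype.card_coe, hT3]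
    rfl
  have hns' : ¬ Group.IsSolvable (H ⧸ V) := by
    intro hs
    haveI := hs
    haveI : Group.IsSolvable V := SubgroupsA8.isSolvable_of_dvd (a := 1) (b := 0) Nat.prime_three Nat.prime_two
      (by rw [hV3]; norm_num)
    exact hns (Spectrum.isSolvable_iff_of_normal V)
  have hperm : Nat.card (Perm {x : Fin 8 // x ∉ T}) = 120 := by rw [Nat.card_perm, hT5]; rfl
  have hdvd : Nat.card (H ⧸ V) ∣ 120 := by
    rw [Nat.card_congr e.toEquiv, ← hperm]
    exact Subgroup.card_subgroup_dvd_card _
  have h60 : 60 ≤ Nat.card (H ⧸ V) := by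
    by_contra hh
    exact hns' (Spectrum.isSolvable_of_card_lt_sixty _ rfl (by omega))
  rcases (show Nat.card (H ⧸ V) = 60 ∨ Nat.card (H ⧸ V) = 120 by
    obtain ⟨c, hc⟩ := hdvd
    have : c ≤ 2 := by by_contra hh; nlinarith
    interval_cases c <;> omega) with h | h
  · exact Or.inl (Spectrum.nonempty_equiv_a5_of_card_sixty h hns')
  · right
    have htop : π.range = ⊤ := Subgroup.eq_top_of_card_eq _ (by rw [hperm, ← Nat.card_congr e.toEquiv, h])
    let e5 := Finite.equivFinOfCardEq hT5
    exact ⟨(e.trans ((MulEquiv.subgroupCongr htop).trans Subgroup.topEquiv)).trans e5.permCongrHom⟩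

end Cfsg.Agent.Lib.RankFive
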