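import Mathlib

/-!
A faithful action of `Sym 6` on an elementary abelian group of order at most 16: the plane attached to three
commuting transvections.
-/

set_option autoImplicit false

namespace Cfsg.Agent.Lib.RankFive

/-- the relations needed among the eight automorphisms -/
structure Data (G : Type*) [Group G] where
  a : G
  b : G
  t₁ : G
  t₂ : G
  t₃ : G
  g : G
  k : G
  l : G
  ha : a ^ 3 = 1
  hb : b ^ 3 = 1
  ha1 : a ≠ 1
  hab : a ≠ b
  hab' : a ≠ b⁻¹
  comm : a * b = b * a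
  h₁ : t₁ ^ 2 = 1
  h₂ : t₂ ^ 2 = 1
  h₁₁ : t₁ ≠ 1
  h₁₂ : t₁ * t₂ = t₂ * t₁
  h₁₃ : t₁ * t₃ = t₃ * t₁
  h₂₃ : t₂ * t₃ = t₃ * t₂
  h₁a : t₁ * a = a⁻¹ * t₁
  h₁b : t₁ * b = b * t₁
  h₂a : t₂ * a = a * t₂
  hga : g * a * g⁻¹ = b
  hg₁ : g * t₁ * g⁻¹ = t₂
  hk₁ : k * t₁ * k⁻¹ = t₁
  hk₂ : k * t₂ * k⁻¹ = t₃
  hl₁ : l * t₁ * l⁻¹ = t₂
  hl₂ : l * t₂ * l⁻¹ = t₃

/-- transport along an injective homomorphism -/
def Data.map {G H : Type*} [Group G] [Group H] (D : Data G) (f : G →* H) (hf : Function.Injective f) :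
    Data H where
  a := f D.a
  b := f D.b
  t₁ := f D.t₁
  t₂ := f D.t₂
  t₃ := f D.t₃
  g := f D.g
  k := f D.k
  l := f D.l
  ha := by rw [← map_pow, D.ha, map_one]
  hb := by rw [← map_pow, D.hb, map_one]
  ha1 h := D.ha1 (hf (h.trans (map_one f).symm))
  hab h := D.hab (hf h)
  hab' h := D.hab' (hf (h.trans (map_inv f D.b).symm))
  comm := by rw [← map_mul, D.comm, map_mul]
  h₁ := by rw [← map_pow, D.h₁, map_one]
  h₂ := by rw [← map_pow, D.h₂, map_one]
  h₁₁ h := D.h₁₁ (hf (h.trans (map_one f).symm))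
  h₁₂ := by rw [← map_mul, D.h₁₂, map_mul]
  h₁₃ := by rw [← map_mul, D.h₁₃, map_mul]
  h₂₃ := by rw [← map_mul, D.h₂₃, map_mul]
  h₁a := by rw [← map_mul, D.h₁a, map_mul, map_inv]
  h₁b := by rw [← map_mul, D.h₁b, map_mul]
  h₂a := by rw [← map_mul, D.h₂a, map_mul]
  hga := by rw [← map_inv, ← map_mul, ← map_mul, D.hga]
  hg₁ := by rw [← map_inv, ← map_mul, ← map_mul, D.hg₁]
  hk₁ := by rw [← map_inv, ← map_mul, ← map_mul, D.hk₁]
  hk₂ := by rw [← map_inv, ← map_mul, ← map_mul, D.hk₂]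
  hl₁ := by rw [← map_inv, ← map_mul, ← map_mul, D.hl₁]
  hl₂ := by rw [← map_inv, ← map_mul, ← map_mul, D.hl₂]

variable {W : Type*} [CommGroup W]

/-- fixed points of an automorphism -/
def fix (e : MulAut W) : Subgroup W where
  carrier := {w | e w = w}
  one_mem' := map_one e
  mul_mem' {x y} hx hy := by
    simp only [Set.mem_ofPred_eq] at hx hy ⊢
    rw [map_mul, hx, hy]
  inv_mem' {x} hx := by
    simp only [Set.mem_ofPred_eq] at hx ⊢
    rw [map_inv, hx]

theorem mem_fix {e : MulAut W} {w : W} : w ∈ fix e ↔ e w = w := Iff.rfl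

/-- `w ↦ e(w) * w` -/
def delta (e : MulAut W) : W →* W where
  toFun w := e w * w
  map_one' := by simp
  map_mul' x y := by rw [map_mul, mul_mul_mul_comm]

theorem delta_apply (e : MulAut W) (w : W) : delta e w = e w * w := rfl

theorem sq_eq_one_iff_eq (h2 : ∀ w : W, w * w = 1) {x y : W} : x * y = 1 ↔ x = y :=
  ⟨fun h => mul_right_cancel (h.trans (h2 y).symm), fun h => h ▸ h2 x⟩

theorem delta_eq_one (h2 : ∀ w : W, w * w = 1) (e : MulAut W) (w : W) : delta e w = 1 ↔ w ∈ fix e := by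
  rw [delta_apply, sq_eq_one_iff_eq h2, mem_fix]

/-- conjugation moves the fixed points and the commutator images -/
theorem conj_fix {g e e' : MulAut W} (h : g * e * g⁻¹ = e') (w : W) : g w ∈ fix e' ↔ w ∈ fix e := by
  rw [← h, mem_fix, mem_fix, MulAut.mul_apply, MulAut.mul_apply, MulAut.inv_apply_self]
  exact g.injective.eq_iff

theorem conj_delta {g e e' : MulAut W} (h : g * e * g⁻¹ = e') (w : W) : g (delta e w) = delta e' (g w) := by
  rw [← h, delta_apply, delta_apply, MulAut.mul_apply, MulAut.mul_apply, MulAut.inv_apply_self, map_mul]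

theorem inv_apply_fix {e : MulAut W} {w : W} (hw : w ∈ fix e) : e⁻¹ w = w := by
  conv_lhs => rw [← mem_fix.1 hw]
  exact MulAut.inv_apply_self _ _ _

/-- four points exhaust a group of order at most four -/
theorem orbit_four {b : MulAut W} (K : Subgroup W) [Finite K] (hK4 : Nat.card K ≤ 4)
    (hb3 : b ^ 3 = 1) (hbK : ∀ w ∈ K, b w ∈ K) (hfree : ∀ w ∈ K, b w = w → w = 1) {x : W} (hx : x ∈ K)
    (hx1 : x ≠ 1) {z : W} (hz : z ∈ K) (hz1 : z ≠ 1) : z = x ∨ z = b x ∨ z = b (b x) := by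
  classical
  by_contra hcon
  simp only [not_or] at hcon
  obtain ⟨e1, e2, e3⟩ := hcon
  have hbx : b x ≠ 1 := fun h => hx1 (b.injective (h.trans (map_one b).symm))
  have hbbx : b (b x) ≠ 1 := fun h => hbx (b.injective (h.trans (map_one b).symm))
  have h01 : b x ≠ x := fun h => hx1 (hfree x hx h)
  have h12 : b (b x) ≠ b x := fun h => h01 (b.injective h)
  have h02 : b (b x) ≠ x := fun h => by
    have := DFunLike.congr_fun hb3 x
    rw [pow_succ, pow_two, MulAut.mul_apply, MulAut.mul_apply, MulAut.one_apply, h] at this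
    exact h01 this
  let s : Finset W := {z, b (b x), b x, x, 1}
  have hs : s.card = 5 := by
    simp [s, Finset.card_insert_of_notMem, e1, e2, e3, hz1, hbx, hbbx, h01, h12, h02, hx1]
  have hsub : (s : Set W) ⊆ K := by
    intro y hy
    simp [s] at hy
    rcases hy with rfl | rfl | rfl | rfl | rfl
    exacts [hz, hbK _ (hbK _ hx), hbK _ hx, hx, K.one_mem]
  have h := Set.ncard_le_ncard hsub (Set.toFinite (K : Set W))
  rw [Set.ncard_coe_finset, hs, ← Nat.card_coe_set_eq] at h
  exact absurd (h.trans hK4) (by norm_num)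

/-- in a group of order at most four acted on fixed-point-freely by an element of order three, a commuting
involution is trivial -/
theorem involution_trivial {b t : MulAut W} (K : Subgroup W) [Finite K] (hK4 : Nat.card K ≤ 4)
    (hb3 : b ^ 3 = 1) (hbK : ∀ w ∈ K, b w ∈ K) (hfree : ∀ w ∈ K, b w = w → w = 1)
    (ht : t ^ 2 = 1) (htK : ∀ w ∈ K, t w ∈ K) (hc : t * b = b * t) : ∀ w ∈ K, t w = w := by
  classical
  intro w hw
  by_cases hw1 : w = 1
  · rw [hw1, map_one]
  have hne : ∀ w : W, w ∈ K → w ≠ 1 → b w ≠ w := fun w h h' he => h' (hfree w h he)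
  have hb3' : ∀ x : W, b (b (b x)) = x := fun x => by
    have := DFunLike.congr_fun hb3 x
    rwa [pow_succ, pow_two, MulAut.mul_apply, MulAut.mul_apply, MulAut.one_apply] at this
  have hbw : b w ≠ 1 := fun h => hw1 (b.injective (h.trans (map_one b).symm))
  have h12 : b (b w) ≠ b w := fun h => hne w hw hw1 (b.injective h)
  have h13 : b (b w) ≠ w := fun h => by
    have := hb3' w
    rw [h] at this
    exact hne w hw hw1 this
  have hbbw : b (b w) ≠ 1 := fun h => hbw (b.injective (h.trans (map_one b).symm))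
  have htw : t w ≠ 1 := fun h => hw1 (t.injective (h.trans (map_one t).symm))
  have hmem : t w = w ∨ t w = b w ∨ t w = b (b w) :=
    orbit_four K hK4 hb3 hbK hfree hw hw1 (htK _ hw) htw
  have hcomm : ∀ x : W, t (b x) = b (t x) := fun x => DFunLike.congr_fun hc x
  have htt : t (t w) = w := by
    have := DFunLike.congr_fun ht w
    rwa [pow_two, MulAut.mul_apply, MulAut.one_apply] at this
  rcases hmem with h | h | h
  · exact h
  · rw [h, hcomm, h] at htt
    exact absurd htt h13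
  · rw [h, hcomm, hcomm, h, hb3'] at htt
    exact absurd htt (hne w hw hw1)

theorem three_le_card (S : Subgroup W) [Finite S] {x y : W} (hx : x ∈ S) (hy : y ∈ S) (hx1 : x ≠ 1)
    (hy1 : y ≠ 1) (hxy : x ≠ y) : 3 ≤ Nat.card S := by
  classical
  let s : Finset W := {x, y, 1}
  have hs : s.card = 3 := by simp [s, Finset.card_insert_of_notMem, hx1, hy1, hxy]
  have hsub : (s : Set W) ⊆ S := by
    intro z hz
    simp [s] at hz
    rcases hz with rfl | rfl | rfl
    exacts [hx, hy, S.one_mem]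
  have h := Set.ncard_le_ncard hsub (Set.toFinite (S : Set W))
  rwa [Set.ncard_coe_finset, hs, ← Nat.card_coe_set_eq] at h

theorem three_mod_two_pow {n : ℕ} (h : ∃ k, n = 2 ^ k) (h1 : n ≠ 1) (h16 : n < 16) (h3 : n % 3 = 1) :
    n = 4 := by
  obtain ⟨k, rfl⟩ := h
  have : k < 4 := (Nat.pow_lt_pow_iff_right (by norm_num)).1 (h16.trans_eq (by norm_num : (16 : ℕ) = 2 ^ 4))
  interval_cases k <;> simp_all

/-- number of fixed points modulo three -/
theorem card_mod_three {b : MulAut W} (K : Subgroup W) [Finite K] (hb3 : b ^ 3 = 1)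
    (hbK : ∀ w ∈ K, b w ∈ K) : Nat.card ↥(K ⊓ fix b) % 3 = Nat.card K % 3 := by
  classical
  haveI : Fact (Nat.Prime 3) := ⟨Nat.prime_three⟩
  let β : Equiv.Perm K :=
    ((b : W ≃* W).toEquiv.subtypeEquiv (fun w => ⟨fun h => hbK w h, fun h => by
      have h3 := DFunLike.congr_fun hb3 w
      rw [pow_succ', pow_two, MulAut.mul_apply, MulAut.mul_apply, MulAut.one_apply] at h3
      exact h3 ▸ hbK _ (hbK _ h)⟩))
  have hval : ∀ x : K, ((β x : K) : W) = b x := fun x => rfl
  haveI : Fintype K := Fintype.ofFinite _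
  have hβ : β ^ 3 ^ 1 = 1 := by
    ext x
    rw [pow_one, pow_succ, pow_two, Equiv.Perm.mul_apply, Equiv.Perm.mul_apply, hval, hval, hval]
    exact DFunLike.congr_fun hb3 (x : W)
  have h := Equiv.Perm.card_fixedPoints_modEq (p := 3) (n := 1) (f := ⇑β) (by
    funext x
    apply Subtype.ext
    rw [pow_one]
    show ((β (β (β x)) : K) : W) = (x : W)
    rw [hval, hval, hval]
    have := DFunLike.congr_fun hb3 (x : W)
    rwa [pow_succ, pow_two, MulAut.mul_apply, MulAut.mul_apply, MulAut.one_apply] at this)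
  rw [Nat.card_eq_fintype_card (α := K), h]
  congr 1
  rw [← Nat.card_eq_fintype_card]
  exact Nat.card_congr
    { toFun := fun x => ⟨⟨x.1, x.2.1⟩, Subtype.ext x.2.2⟩
      invFun := fun x => ⟨x.1.1, x.1.2, congrArg Subtype.val x.2⟩
      left_inv := fun x => rfl
      right_inv := fun x => rfl }

variable [Finite W]

/-- the plane of three commuting transvections -/
theorem plane (h2 : ∀ w : W, w * w = 1) (h16 : Nat.card W ≤ 16) (D : Data (MulAut W)) (hfix : fix D.a ≠ ⊥) :
    ∃ L : Subgroup W, Nat.card L = 4 ∧ Nat.card W = 16 ∧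
      (∀ e ∈ ({D.t₁, D.t₂, D.t₃} : Set (MulAut W)), L ≤ fix e ∧ ∀ w, delta e w ∈ L) ∧
      fix D.t₁ ⊓ fix D.t₂ ≤ L ∧ fix D.t₁ ⊓ fix D.t₃ ≤ L ∧ fix D.t₂ ⊓ fix D.t₃ ≤ L ∧
      ∀ s ∈ fix D.t₁, delta D.b s ∈ (delta D.t₁).range → s ∈ L ∧ D.g s ∈ L ∧ D.k (D.g s) ∈ L := by
  classical
  haveI : Fact (Nat.Prime 2) := ⟨Nat.prime_two⟩
  obtain ⟨a, b, t₁, t₂, t₃, g, k, l, ha, hb, ha1, hab, hab', comm, h₁, h₂, h₁₁, h₁₂, h₁₃, h₂₃, h₁a, h₁b, h₂a,
    hga, hg₁, hk₁, hk₂, hl₁, hl₂⟩ := D
  simp only at hfix ⊢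
  have hW2 : IsPGroup 2 W := fun w => ⟨1, by rw [pow_one, pow_two]; exact h2 w⟩
  have pw : ∀ S : Subgroup W, ∃ j, Nat.card S = 2 ^ j := fun S => IsPGroup.iff_card.1 (hW2.to_subgroup S)
  have cube : ∀ {e : MulAut W}, e ^ 3 = 1 → ∀ x, e (e (e x)) = x := fun {e} he x => by
    have := DFunLike.congr_fun he x
    rwa [pow_succ, pow_two, MulAut.mul_apply, MulAut.mul_apply, MulAut.one_apply] at this
  have square : ∀ {e : MulAut W}, e ^ 2 = 1 → ∀ x, e (e x) = x := fun {e} he x => by
    have := DFunLike.congr_fun he x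
    rwa [pow_two, MulAut.mul_apply, MulAut.one_apply] at this
  set K := fix a with hK
  set A := (delta a).range with hA
  -- `A` and `K` meet trivially
  have hAK : ∀ x ∈ A, x ∈ K → x = 1 := by
    rintro x ⟨u, rfl⟩ hx
    rw [mem_fix, delta_apply, map_mul, mul_comm (a u) u] at hx
    have h3 : a (a u) = u := mul_right_cancel hx
    have h4 : a u = u := by
      have := cube ha u
      rwa [h3] at this
    rw [delta_apply, h4, h2]
  have hsplit : ∀ w : W, ∃ x ∈ A, ∃ y ∈ K, w = x * y := by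
    have hcard : Nat.card K * Nat.card A = Nat.card W := by
      have h := (delta a).ker.card_mul_index
      rw [Subgroup.index_ker] at h
      have he : (delta a).ker = K := by
        ext w
        rw [MonoidHom.mem_ker, delta_eq_one h2]
      rwa [he] at h
    let m : A × K → W := fun p => p.1.1 * p.2.1
    have hm : Function.Injective m := by
      rintro ⟨⟨x, hx⟩, ⟨y, hy⟩⟩ ⟨⟨x', hx'⟩, ⟨y', hy'⟩⟩ h
      change x * y = x' * y' at h
      have h5 : x'⁻¹ * x = y' * y⁻¹ := by
        rw [eq_mul_inv_iff_mul_eq, mul_assoc, h, ← mul_assoc, inv_mul_cancel, one_mul]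
      have h6 := hAK _ (A.mul_mem (A.inv_mem hx') hx) (h5 ▸ K.mul_mem hy' (K.inv_mem hy))
      have hxx : x = x' := (inv_mul_eq_one.1 h6).symm
      subst hxx
      have hyy : y = y' := mul_left_cancel h
      subst hyy
      rfl
    have hb' := hm.bijective_of_nat_card_le (by rw [Nat.card_prod, mul_comm, hcard])
    intro w
    obtain ⟨⟨x, y⟩, hxy⟩ := hb'.2 w
    exact ⟨x, x.2, y, y.2, hxy.symm⟩
  have hcard : Nat.card K * Nat.card A = Nat.card W := by
    have h := (delta a).ker.card_mul_index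
    rw [Subgroup.index_ker] at h
    have he : (delta a).ker = K := by
      ext w
      rw [MonoidHom.mem_ker, delta_eq_one h2]
    rwa [he] at h
  have haA : ∀ w ∈ A, a w ∈ A := by
    rintro _ ⟨u, rfl⟩
    exact ⟨a u, (by rw [delta_apply, delta_apply, map_mul])⟩
  have hAfree : ∀ w ∈ A, a w = w → w = 1 := fun w hw he => hAK w hw he
  have hA1 : A ≠ ⊥ := by
    intro h
    apply ha1
    ext w
    have : delta a w = 1 := Subgroup.mem_bot.1 (h ▸ ⟨w, rfl⟩)
    exact (delta_eq_one h2 a w).1 this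
  have hA4 : Nat.card A = 4 := by
    refine three_mod_two_pow (pw A) (fun h => hA1 (Subgroup.card_eq_one.1 h)) ?_ ?_
    · have h1 : 1 < Nat.card K := Subgroup.one_lt_card_iff_ne_bot K |>.2 hfix
      have h0 : 0 < Nat.card A := Nat.card_pos
      nlinarith
    · have h := card_mod_three A ha haA
      have hbot : A ⊓ fix a = ⊥ := eq_bot_iff.2 fun w hw => Subgroup.mem_bot.2 (hAK w hw.1 hw.2)
      rw [hbot, Subgroup.card_bot] at h
      exact h.symm
  have hK4 : Nat.card K ≤ 4 := by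
    rw [hA4] at hcard
    omega
  -- `b`
  have hcomm : ∀ x : W, a (b x) = b (a x) := fun x => DFunLike.congr_fun comm x
  have hbA : ∀ w ∈ A, b w ∈ A := by
    rintro _ ⟨u, rfl⟩
    exact ⟨b u, (by rw [delta_apply, delta_apply, map_mul, hcomm])⟩
  have hbK : ∀ w ∈ K, b w ∈ K := fun w hw => by rw [mem_fix, hcomm, mem_fix.1 hw]
  have hKb : Nat.card (fix b) = Nat.card K := (Nat.card_congr
    ((g : W ≃* W).toEquiv.subtypeEquiv (fun w => (conj_fix hga w).symm))).symm
  have hbfree : ∀ w ∈ K, b w = w → w = 1 := by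
    by_contra hcon
    simp only [not_forall] at hcon
    obtain ⟨w, hw, hwb, hw1⟩ := hcon
    have hKK : K ≤ fix b := by
      have h := card_mod_three K hb hbK
      obtain ⟨j, hj⟩ := pw (K ⊓ fix b)
      have hle : Nat.card ↥(K ⊓ fix b) ≤ Nat.card K := Subgroup.card_le_of_le inf_le_left
      have h1 : 1 < Nat.card ↥(K ⊓ fix b) := Subgroup.one_lt_card_iff_ne_bot _ |>.2 fun h0 =>
        hw1 (Subgroup.mem_bot.1 (h0 ▸ (⟨hw, hwb⟩ : w ∈ K ⊓ fix b)))
      obtain ⟨i, hi⟩ := pw K
      have hi2 : i < 3 := by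
        by_contra hh
        have : 2 ^ 3 ≤ 2 ^ i := Nat.pow_le_pow_right two_pos (by omega)
        omega
      have hj2 : j < 3 := by
        by_contra hh
        have : 2 ^ 3 ≤ 2 ^ j := Nat.pow_le_pow_right two_pos (by omega)
        omega
      have heq : Nat.card ↥(K ⊓ fix b) = Nat.card K := by
        rw [hi, hj] at h hle ⊢
        rw [hj] at h1
        interval_cases i <;> interval_cases j <;> omega
      exact inf_eq_left.1 (Subgroup.eq_of_le_of_card_ge inf_le_left heq.ge)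
    have hKeq : fix b = K := (Subgroup.eq_of_le_of_card_ge hKK hKb.le).symm
    -- both act fixed-point-freely on `A` and trivially on `K`
    have hbA1 : ∀ w ∈ A, b w = w → w = 1 := fun w hw he => hAK w hw (hKeq ▸ he)
    obtain ⟨x, hxA, hx1⟩ : ∃ x ∈ A, x ≠ 1 := by
      by_contra hh
      push Not at hh
      exact hA1 (eq_bot_iff.2 fun w hw => Subgroup.mem_bot.2 (hh w hw))
    have cases3 : ∀ z ∈ A, z ≠ 1 → z = x ∨ z = a x ∨ z = a (a x) := fun z hz hz1 =>
      orbit_four A hA4.le ha haA hAfree hxA hx1 hz hz1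
    have hgen : ∀ e : MulAut W, (e * a = a * e) → e x = x → (∀ w ∈ K, e w = w) → e = 1 := by
      intro e he hex heK
      have hea : ∀ y, e (a y) = a (e y) := fun y => DFunLike.congr_fun he y
      ext w
      obtain ⟨p, hp, q, hq, rfl⟩ := hsplit w
      rw [MulAut.one_apply, map_mul, heK q hq]
      congr 1
      by_cases hp1 : p = 1
      · rw [hp1, map_one]
      rcases cases3 p hp hp1 with h | h | h <;> subst h
      · exact hex
      · rw [hea, hex]
      · rw [hea, hea, hex]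
    have hbx : b x ≠ 1 := fun h => hx1 (b.injective (h.trans (map_one b).symm))
    have hKa : ∀ w ∈ K, a w = w := fun w hw => hw
    have hKb' : ∀ w ∈ K, b w = w := fun w hw => hKK hw
    rcases cases3 (b x) (hbA x hxA) hbx with h | h | h
    · exact hx1 (hbA1 x hxA h)
    · refine hab (inv_mul_eq_one.1 (hgen (a⁻¹ * b) ?_ ?_ ?_))
      · rw [mul_assoc, ← comm]
        group
      · rw [MulAut.mul_apply, h, MulAut.inv_apply_self]
      · intro w hw
        rw [MulAut.mul_apply, hKb' w hw, inv_apply_fix hw]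
    · refine hab' (mul_eq_one_iff_eq_inv.1 (hgen (a * b) ?_ ?_ ?_))
      · rw [mul_assoc, ← comm]
      · rw [MulAut.mul_apply, h, cube ha]
      · intro w hw
        rw [MulAut.mul_apply, hKb' w hw, hKa w hw]
  have hKcard : Nat.card K = 4 := by
    refine three_mod_two_pow (pw K) (fun h => hfix (Subgroup.card_eq_one.1 h)) (by omega) ?_
    have h := card_mod_three K hb hbK
    have hbot : K ⊓ fix b = ⊥ := eq_bot_iff.2 fun w hw => Subgroup.mem_bot.2 (hbfree w hw.1 hw.2)
    rw [hbot, Subgroup.card_bot] at h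
    exact h.symm
  have hW : Nat.card W = 16 := by rw [← hcard, hKcard, hA4]
  have hbfix : fix b ≤ A := by
    intro w hw
    obtain ⟨p, hp, q, hq, rfl⟩ := hsplit w
    rw [mem_fix, map_mul] at hw
    have h5 : p⁻¹ * b p = q * (b q)⁻¹ := by
      rw [eq_mul_inv_iff_mul_eq, mul_assoc, hw, ← mul_assoc, inv_mul_cancel, one_mul]
    have h6 := hAK _ (A.mul_mem (A.inv_mem hp) (hbA p hp)) (h5 ▸ K.mul_mem hq (K.inv_mem (hbK q hq)))
    rw [h6, eq_comm, mul_inv_eq_one] at h5
    rw [hbfree q hq h5.symm, mul_one]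
    exact hp
  have hbA' : fix b = A := Subgroup.eq_of_le_of_card_ge hbfix (by rw [hKb, hKcard, hA4])
  have hbtrivA : ∀ w ∈ A, b w = w := fun w hw => by
    rw [← hbA'] at hw
    exact hw
  -- the involutions
  have h1a : ∀ x, t₁ (a x) = a⁻¹ (t₁ x) := fun x => DFunLike.congr_fun h₁a x
  have h1b : ∀ x, t₁ (b x) = b (t₁ x) := fun x => DFunLike.congr_fun h₁b x
  have h2a : ∀ x, t₂ (a x) = a (t₂ x) := fun x => DFunLike.congr_fun h₂a x
  have h1K : ∀ w ∈ K, t₁ w = w := by
    refine involution_trivial K hK4 hb hbK hbfree h₁ ?_ h₁b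
    intro w hw
    have h := h1a w
    rw [mem_fix.1 hw] at h
    rw [mem_fix]
    conv_lhs => rw [h]
    exact MulAut.apply_inv_self _ _ _
  have h1A : ∀ w ∈ A, t₁ w ∈ A := by
    rw [← hbA']
    intro w hw
    rw [mem_fix, ← h1b, mem_fix.1 hw]
  have h2A : ∀ w ∈ A, t₂ w = w := by
    refine involution_trivial A hA4.le ha haA hAfree h₂ ?_ h₂a
    rintro _ ⟨u, rfl⟩
    exact ⟨t₂ u, (by rw [delta_apply, delta_apply, map_mul, h2a])⟩
  set R := (delta t₁).range with hR
  have hdel1 : ∀ w, delta t₁ w ∈ A := by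
    intro w
    obtain ⟨p, hp, q, hq, rfl⟩ := hsplit w
    rw [map_mul, delta_apply t₁ q, h1K q hq, h2, mul_one, delta_apply]
    exact A.mul_mem (h1A p hp) hp
  obtain ⟨u, hu, hu1⟩ : ∃ u ∈ R, u ≠ 1 := by
    by_contra hh
    push Not at hh
    apply h₁₁
    ext w
    exact (delta_eq_one h2 t₁ w).1 (hh _ ⟨w, rfl⟩)
  have huA : u ∈ A := by
    obtain ⟨z, rfl⟩ := hu
    exact hdel1 z
  have hu_fix : t₁ u = u := by
    obtain ⟨z, rfl⟩ := hu
    rw [delta_apply, map_mul, square h₁, mul_comm]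
  -- `t₁` fixes only two points of `A`
  have hfixA : ∀ p ∈ A, t₁ p = p → p = 1 ∨ p = u := by
    intro p hp hpf
    by_contra hcon
    simp only [not_or] at hcon
    have hau : a u ∈ A := haA u huA
    have h4 : ∀ q ∈ A, t₁ q = q := by
      let F : Subgroup W := A ⊓ fix t₁
      have h3 : 3 ≤ Nat.card F :=
        three_le_card F ⟨huA, hu_fix⟩ ⟨hp, hpf⟩ hu1 hcon.1 (Ne.symm hcon.2)
      obtain ⟨j, hj⟩ := pw F
      have hle : Nat.card F ≤ 4 := hA4 ▸ Subgroup.card_le_of_le inf_le_left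
      have hj2 : j = 2 := by
        have : j < 3 := by
          by_contra hh
          have : 2 ^ 3 ≤ 2 ^ j := Nat.pow_le_pow_right two_pos (by omega)
          omega
        interval_cases j <;> omega
      have hF : F = A := Subgroup.eq_of_le_of_card_ge inf_le_left (by rw [hA4, hj, hj2]; norm_num)
      exact fun q hq => (hF ▸ hq : q ∈ F).2
    have h5 := h1a u
    rw [h4 _ hau, hu_fix] at h5
    have h6 : a (a u) = u := by rw [h5, MulAut.apply_inv_self]
    have h7 := cube ha u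
    rw [h6] at h7
    exact hu1 (hAfree u huA h7)
  have hRsub : ∀ r ∈ R, r = 1 ∨ r = u := by
    rintro _ ⟨z, rfl⟩
    refine hfixA _ (hdel1 z) ?_
    rw [delta_apply, map_mul, square h₁, mul_comm]
  set v := g u with hv
  have hvK : v ∈ K := by
    obtain ⟨z, hz⟩ := huA
    rw [hv, ← hz, conj_delta hga]
    obtain ⟨p, hp, q, hq, hpq⟩ := hsplit (g z)
    rw [hpq, map_mul, delta_apply b p, hbtrivA p hp, h2, one_mul, delta_apply]
    exact K.mul_mem (hbK q hq) hq
  have hv1 : v ≠ 1 := fun h => hu1 (g.injective (h.trans (map_one g).symm))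
  have hv2 : v ∈ (delta t₂).range := by
    obtain ⟨z, hz⟩ := hu
    exact ⟨g z, by rw [← conj_delta hg₁, hz]⟩
  have hv2fix : t₂ v = v := by
    obtain ⟨z, hz⟩ := hv2
    rw [← hz, delta_apply, map_mul, square h₂, mul_comm]
  set L := fix t₁ ⊓ fix t₂ with hL
  have huL : u ∈ L := ⟨hu_fix, h2A u huA⟩
  have hvL : v ∈ L := ⟨h1K v hvK, hv2fix⟩
  have huv : u ≠ v := fun h => hu1 (hAK u huA (h ▸ hvK))
  have hLdec : ∀ w ∈ L, w ∈ ({1, u, v, u * v} : Set W) := by
    intro w hw
    obtain ⟨p, hp, q, hq, rfl⟩ := hsplit w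
    obtain ⟨hw1, hw2⟩ := hw
    have hp' : t₁ p = p := by
      change t₁ (p * q) = p * q at hw1
      rw [map_mul, h1K q hq] at hw1
      exact mul_right_cancel hw1
    have hq' : t₂ q = q := by
      change t₂ (p * q) = p * q at hw2
      rw [map_mul, h2A p hp] at hw2
      exact mul_left_cancel hw2
    -- move `q` back by `g`
    have hq2 : q = 1 ∨ q = v := by
      obtain ⟨z, rfl⟩ : ∃ z, g z = q := ⟨g⁻¹ q, MulAut.apply_inv_self _ _ _⟩
      have hz : z ∈ fix t₁ := (conj_fix hg₁ z).1 hq'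
      obtain ⟨p', hp'', q', hq'', rfl⟩ := hsplit z
      have hgq : g q' ∈ A := hbA' ▸ (conj_fix hga q').2 hq''
      have hgp : g p' ∈ K := by
        obtain ⟨z', rfl⟩ := hp''
        rw [conj_delta hga]
        obtain ⟨p₁, hp₁, q₁, hq₁, hpq⟩ := hsplit (g z')
        rw [hpq, map_mul, delta_apply b p₁, hbtrivA p₁ hp₁, h2, one_mul, delta_apply]
        exact K.mul_mem (hbK q₁ hq₁) hq₁
      have hq0 : g q' = 1 := by
        refine hAK _ hgq ?_
        have : g q' = (g p')⁻¹ * g (p' * q') := by rw [map_mul, inv_mul_cancel_left]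
        rw [this]
        exact K.mul_mem (K.inv_mem hgp) hq
      rw [map_mul, hq0, mul_one]
      have hp1 : t₁ p' = p' := by
        rw [mem_fix, map_mul, h1K q' hq''] at hz
        exact mul_right_cancel hz
      rcases hfixA p' hp'' hp1 with h | h
      · left; rw [h, map_one]
      · right; rw [h]
    rcases hfixA p hp hp' with rfl | rfl <;> rcases hq2 with rfl | rfl <;> simp
  have hL4 : Nat.card L = 4 := by
    have hle : Nat.card L ≤ 4 := by
      show Nat.card ↥(L : Set W) ≤ 4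
      rw [Nat.card_coe_set_eq]
      refine (Set.ncard_le_ncard hLdec (Set.toFinite _)).trans ?_
      refine (Set.ncard_insert_le _ _).trans ?_
      refine Nat.succ_le_succ ((Set.ncard_insert_le _ _).trans ?_)
      refine Nat.succ_le_succ ((Set.ncard_insert_le _ _).trans ?_)
      rw [Set.ncard_singleton]
    have h3 := three_le_card L huL hvL hu1 hv1 huv
    obtain ⟨j, hj⟩ := pw L
    have : j < 3 := by
      by_contra hh
      have : 2 ^ 3 ≤ 2 ^ j := Nat.pow_le_pow_right two_pos (by omega)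
      omega
    interval_cases j <;> omega
  -- `t₃`
  have hgu : ∀ r ∈ (delta t₁).range, g r = 1 ∨ g r = v := by
    intro r hr
    rcases hRsub r hr with h | h <;> subst h
    · left; exact map_one g
    · right; rfl
  have hkv : k v ∈ (delta t₃).range := by
    obtain ⟨z, hz⟩ := hv2
    exact ⟨k z, by rw [← conj_delta hk₂, hz]⟩
  have h3range : ∀ r ∈ (delta t₃).range, r = 1 ∨ r = k v := by
    rintro _ ⟨z, rfl⟩
    obtain ⟨z', rfl⟩ : ∃ z', k z' = z := ⟨k⁻¹ z, MulAut.apply_inv_self _ _ _⟩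
    obtain ⟨z'', rfl⟩ : ∃ z'', g z'' = z' := ⟨g⁻¹ z', MulAut.apply_inv_self _ _ _⟩
    rw [← conj_delta hk₂, ← conj_delta hg₁]
    rcases hgu _ ⟨z'', rfl⟩ with h | h
    · left; rw [h, map_one]
    · right; rw [h]
  have kick : ∀ t e : MulAut W, ∀ r : W, t * e = e * t → r ∈ (delta t).range → r ≠ 1 →
      (∀ s ∈ (delta t).range, s = 1 ∨ s = r) → e r = r := by
    intro t e r hte hr hr1 hall
    obtain ⟨z, rfl⟩ := hr
    have h : e (delta t z) ∈ (delta t).range := ⟨e z, by
      rw [delta_apply, delta_apply, map_mul]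
      congr 1
      exact DFunLike.congr_fun hte z⟩
    rcases hall _ h with h' | h'
    · exact absurd (e.injective (h'.trans (map_one e).symm)) hr1
    · exact h'
  have h3u : t₃ u = u := kick t₁ t₃ u h₁₃ hu hu1 hRsub
  have hR2 : ∀ r ∈ (delta t₂).range, r = 1 ∨ r = v := by
    rintro _ ⟨z, rfl⟩
    obtain ⟨z', rfl⟩ : ∃ z', g z' = z := ⟨g⁻¹ z, MulAut.apply_inv_self _ _ _⟩
    rw [← conj_delta hg₁]
    exact hgu _ ⟨z', rfl⟩
  have h3v : t₃ v = v := kick t₂ t₃ v h₂₃ hv2 hv1 hR2
  have hkv1 : k v ≠ 1 := fun h => hv1 (k.injective (h.trans (map_one k).symm))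
  have hkvL : k v ∈ L :=
    ⟨kick t₃ t₁ _ h₁₃.symm hkv hkv1 h3range, kick t₃ t₂ _ h₂₃.symm hkv hkv1 h3range⟩
  have hL3 : L ≤ fix t₃ := by
    intro w hw
    rcases hLdec w hw with rfl | rfl | rfl | rfl
    · exact one_mem _
    · exact h3u
    · exact h3v
    · exact (fix t₃).mul_mem h3u h3v
  have hinf : ∀ (e x y : MulAut W), e * t₁ * e⁻¹ = x → e * t₂ * e⁻¹ = y → L ≤ fix x → L ≤ fix y →
      fix x ⊓ fix y ≤ L := by
    intro e x y hx hy hxL hyL
    have hmap : fix x ⊓ fix y = L.map (e : W ≃* W).toMonoidHom := by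
      ext w
      obtain ⟨z, rfl⟩ : ∃ z, e z = w := ⟨e⁻¹ w, MulAut.apply_inv_self _ _ _⟩
      rw [Subgroup.mem_inf, conj_fix hx, conj_fix hy, Subgroup.mem_map]
      exact ⟨fun h => ⟨z, h, rfl⟩, fun ⟨z', hz', he⟩ => (e : W ≃* W).injective he ▸ hz'⟩
    refine (Subgroup.eq_of_le_of_card_ge (le_inf hxL hyL) ?_).ge
    rw [hmap, Subgroup.card_map_of_injective (e : W ≃* W).injective]
  refine ⟨L, hL4, hW, ?_, le_rfl, ?_, ?_, ?_⟩
  · rintro e (rfl | rfl | rfl)
    · exact ⟨inf_le_left, fun w => by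
        rcases hRsub _ ⟨w, rfl⟩ with h | h <;> rw [h]
        · exact one_mem _
        · exact huL⟩
    · exact ⟨inf_le_right, fun w => by
        rcases hR2 _ ⟨w, rfl⟩ with h | h <;> rw [h]
        · exact one_mem _
        · exact hvL⟩
    · exact ⟨hL3, fun w => by
        rcases h3range _ ⟨w, rfl⟩ with h | h <;> rw [h]
        · exact one_mem _
        · exact hkvL⟩
  · exact hinf k t₁ t₃ hk₁ hk₂ inf_le_left hL3
  · exact hinf l t₂ t₃ hl₁ hl₂ inf_le_right hL3
  · intro s hs hbs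
    obtain ⟨p, hp, q, hq, rfl⟩ := hsplit s
    have hq1 : q = 1 := by
      refine hbfree q hq ?_
      have h5 : delta b (p * q) = b q * q := by
        rw [map_mul, delta_apply b p, hbtrivA p hp, h2, one_mul, delta_apply]
      rw [h5] at hbs
      have h6 : b q * q ∈ A := by
        obtain ⟨z, hz⟩ := hbs
        rw [← hz]
        exact hdel1 z
      exact (sq_eq_one_iff_eq h2).1 (hAK _ h6 (K.mul_mem (hbK q hq) hq))
    subst hq1
    rw [mul_one] at hs ⊢
    rcases hfixA p hp hs with rfl | rfl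
    · simp [one_mem]
    · exact ⟨huL, hvL, hkvL⟩

/-- one of the four subgroups of order three of a faithful abelian group of order nine has a fixed point -/
theorem exists_fix [Nontrivial W] (h2 : ∀ w : W, w * w = 1) {a b : MulAut W} (ha : a ^ 3 = 1) (hb3 : b ^ 3 = 1)
    (comm : a * b = b * a) :
    fix a ≠ ⊥ ∨ fix b ≠ ⊥ ∨ fix (a * b) ≠ ⊥ ∨ fix (a⁻¹ * b) ≠ ⊥ := by
  by_contra hcon
  simp only [not_or, not_not] at hcon
  obtain ⟨fa, fb, fab, fab'⟩ := hcon
  obtain ⟨w, hw⟩ := exists_ne (1 : W)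
  have cube : ∀ x, a (a (a x)) = x := fun x => by
    have := DFunLike.congr_fun ha x
    rwa [pow_succ, pow_two, MulAut.mul_apply, MulAut.mul_apply, MulAut.one_apply] at this
  have hc : ∀ x, a (b x) = b (a x) := fun x => DFunLike.congr_fun comm x
  have hai : ∀ x, a⁻¹ x = a (a x) := fun x => a.injective (by rw [MulAut.apply_inv_self, cube])
  -- a fixed-point-free element of order three kills its orbit products
  have key : ∀ e : MulAut W, fix e = ⊥ → (∀ x, e (e (e x)) = x) → ∀ x, x * e x * e (e x) = 1 := by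
    intro e he h3 x
    refine Subgroup.mem_bot.1 (he ▸ mem_fix.2 ?_)
    rw [map_mul, map_mul, h3, mul_comm, mul_assoc]
  have hb : ∀ x, b (b (b x)) = x := fun x => by
    have := DFunLike.congr_fun hb3 x
    rwa [pow_succ, pow_two, MulAut.mul_apply, MulAut.mul_apply, MulAut.one_apply] at this
  have k2 := key b fb hb w
  have k3 := key (a * b) fab (fun x => by simp only [MulAut.mul_apply, hc, cube, hb]) w
  have k4 := key (a⁻¹ * b) fab' (fun x => by
    simp only [MulAut.mul_apply, hai, hc, cube, hb]) w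
  simp only [MulAut.mul_apply, hai, hc] at k3 k4
  have k5 := key a fa cube (b w)
  have k6 := key a fa cube (b (b w))
  simp only [hc, cube] at k5 k6 k4
  have hall := congrArg₂ (· * ·) (congrArg₂ (· * ·) k2 k3) k4
  simp only [mul_one] at hall
  apply hw
  calc w = (w * (b w) * b (b w) * (w * b (a w) * b (b (a (a w)))) * (w * b (a (a w)) * b (b (a w)))) *
        ((b w * b (a w) * b (a (a w))) * (b (b w) * b (b (a w)) * b (b (a (a w))))) := by
          simp only [mul_assoc, mul_comm, mul_left_comm]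
          simp only [h2, ← mul_assoc, one_mul, mul_one]
    _ = 1 := by rw [hall, k5, k6, mul_one, mul_one]

end Cfsg.Agent.Lib.RankFive
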