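import Cfsg.Agent.Lib.RankFive.Section
import Cfsg.Agent.S3103

/-!
The action of `X / O₂(X)` on the Frattini factor of `O₂(X)`.
-/

set_option autoImplicit false

namespace Cfsg.Agent.Lib.RankFive

open Equiv

/-- `X / O₂(X)` cannot contain `Sym 6` when `X` has sectional rank at most four -/
theorem no_six {X : Type*} [Group X] [Finite X] (hc : Cfsg.IsPConstrained 2 X) (hO : Cfsg.oddCore X = ⊥)
    (h4 : Cfsg.SectionalPRankLE 2 4 X) (ι : Perm (Fin 6) →* X ⧸ Cfsg.pCore 2 X) (hι : Function.Injective ι) :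
    False := by
  classical
  haveI : Fact (Nat.Prime 2) := ⟨Nat.prime_two⟩
  set Q := Cfsg.pCore 2 X with hQ
  have hQ2 : IsPGroup 2 Q := Cores.pCore_isPGroup 2
  haveI : (frattini ↥Q).Characteristic := inferInstance
  set Φ : Subgroup X := (frattini ↥Q).map Q.subtype with hΦ
  haveI : Φ.Normal := Cores.normal_map_subtype Q (frattini ↥Q)
  let π := QuotientGroup.mk' Φ
  have hπ : Function.Surjective π := QuotientGroup.mk'_surjective Φ
  set W : Subgroup (X ⧸ Φ) := Q.map π with hW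
  haveI : W.Normal := (inferInstance : Q.Normal).map π hπ
  have hel := PGroups.frattiniQuotient_elemAb (p := 2) hQ2
  have hq : ∀ a : Q, a ∈ frattini ↥Q → π (a : X) = 1 := fun a ha =>
    (QuotientGroup.eq_one_iff _).2 ⟨a, ha, rfl⟩
  have hcomm : ∀ a b : Q, π ((a : X) * b) = π ((b : X) * a) := by
    intro a b
    have h := PGroups.elemAb_comm hel (Subgroup.mem_top ((a : ↥Q ⧸ frattini ↥Q))) (Subgroup.mem_top (b : ↥Q ⧸ frattini ↥Q))
    rw [← QuotientGroup.mk_mul, ← QuotientGroup.mk_mul, QuotientGroup.eq_iff_div_mem] at h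
    have h' := hq _ h
    rwa [div_eq_mul_inv, Subgroup.coe_mul, Subgroup.coe_inv, map_mul, map_inv, mul_inv_eq_one,
      Subgroup.coe_mul, Subgroup.coe_mul] at h'
  have hsq : ∀ a : Q, π ((a : X) * a) = 1 := by
    intro a
    have h := PGroups.elemAb_pow hel (Subgroup.mem_top ((a : ↥Q ⧸ frattini ↥Q)))
    rw [← QuotientGroup.mk_pow, QuotientGroup.eq_one_iff, pow_two] at h
    exact hq _ h
  have hWc : ∀ a b : W, a * b = b * a := by
    rintro ⟨_, a, ha, rfl⟩ ⟨_, b, hb, rfl⟩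
    apply Subtype.ext
    rw [Subgroup.coe_mul, Subgroup.coe_mul]
    rw [← map_mul, ← map_mul]
    exact hcomm ⟨a, ha⟩ ⟨b, hb⟩
  have hW2 : ∀ a : W, a * a = 1 := by
    rintro ⟨_, a, ha, rfl⟩
    apply Subtype.ext
    show π a * π a = 1
    rw [← map_mul]
    exact hsq ⟨a, ha⟩
  have h16 : Nat.card W ≤ 16 := by
    refine (SectionalRank.card_le h4 Q (π.comp Q.subtype) W ?_ ⟨⟨⟨fun a b => hWc a b⟩⟩, fun a ha => ?_⟩).trans_eq
      (by norm_num)
    · rintro _ ⟨a, ha, rfl⟩
      exact ⟨⟨a, ha⟩, rfl⟩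
    · rw [pow_two]
      exact congrArg Subtype.val (hW2 ⟨a, ha⟩)
  let ρ : X ⧸ Φ →* MulAut W := MulAut.conjNormal
  let act : X →* MulAut W := ρ.comp π
  have hQK : Q ≤ act.ker := by
    intro x hx
    rw [MonoidHom.mem_ker]
    refine MulEquiv.ext fun w => Subtype.ext ?_
    show π x * (w : X ⧸ Φ) * (π x)⁻¹ = w
    exact mul_inv_eq_of_eq_mul (congrArg Subtype.val (hWc ⟨π x, ⟨x, hx, rfl⟩⟩ w))
  have hKQ : act.ker ≤ Q := by
    refine Cores.le_pCore
      (IsPGroup.of_card (n := (Nat.card act.ker).primeFactorsList.length) ?_)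
    refine Nat.eq_prime_pow_of_unique_prime_dvd Nat.card_pos.ne' ?_
    intro q hq' hqd
    by_contra hq2
    haveI : Fact q.Prime := ⟨hq'⟩
    obtain ⟨y, hy⟩ := exists_prime_orderOf_dvd_card' q hqd
    have hyo : orderOf (y : X) = q := (Subgroup.orderOf_coe y).trans hy
    have hcop : (Nat.card (Subgroup.zpowers (y : X))).Coprime (Nat.card (frattini ↥Q)) := by
      rw [Nat.card_zpowers, hyo]
      obtain ⟨m, hm⟩ := IsPGroup.iff_card.1 (hQ2.to_subgroup (frattini ↥Q))
      rw [hm]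
      exact ((Nat.coprime_primes hq' Nat.prime_two).2 hq2).pow_right m
    have hle : Subgroup.zpowers (y : X) ≤ Subgroup.centralizer (Q : Set X) := by
      refine Coprime.le_centralizer_of_frattini ?_ hcop ?_
      · rw [Subgroup.normalizer_eq_top]; exact le_top
      · intro a ha k hk
        have hak : a ∈ act.ker := (Subgroup.zpowers_le.2 y.2) ha
        rw [MonoidHom.mem_ker] at hak
        have h := congrArg Subtype.val (DFunLike.congr_fun hak (⟨π k, ⟨k, hk, rfl⟩⟩ : W))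
        change π a * π k * (π a)⁻¹ = π k at h
        have h' : π (a * k * a⁻¹ * k⁻¹) = 1 := by rw [map_mul, map_mul, map_mul, map_inv, map_inv, h, mul_inv_cancel]
        obtain ⟨z, hz, hze⟩ := (QuotientGroup.eq_one_iff _).1 h'
        exact ⟨z, hz, hze⟩
    have hyQ : (y : X) ∈ Q := S3103.aux_centralizer hc hO (hle (Subgroup.mem_zpowers _))
    obtain ⟨m, hm⟩ := IsPGroup.iff_orderOf.1 hQ2 ⟨y, hyQ⟩
    rw [← Subgroup.orderOf_coe, Subgroup.coe_mk, hyo] at hm
    exact hq2 ((Nat.prime_dvd_prime_iff_eq hq' Nat.prime_two).1 (hq'.dvd_of_dvd_pow hm.dvd))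
  let ψ₀ : X ⧸ Q →* MulAut W := QuotientGroup.lift Q act hQK
  have hψ₀ : Function.Injective ψ₀ := by
    rw [← MonoidHom.ker_eq_bot_iff, eq_bot_iff]
    intro x hx
    obtain ⟨x, rfl⟩ := QuotientGroup.mk_surjective x
    rw [MonoidHom.mem_ker, QuotientGroup.lift_mk] at hx
    rw [Subgroup.mem_bot, QuotientGroup.eq_one_iff]
    exact hKQ hx
  refine false_of_six h4 π hπ W hWc hW2 h16 (ψ₀.comp ι) (hψ₀.comp hι) (fun σ => ?_) (fun y hy => ?_)
  · obtain ⟨x, hx⟩ := QuotientGroup.mk_surjective (ι σ)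
    refine ⟨π x, ?_⟩
    show act x = ψ₀ (ι σ)
    rw [← hx]
    rfl
  · obtain ⟨x, rfl⟩ := hπ y
    exact ⟨x, hKQ hy, rfl⟩

/-- `Sym 6` in `Alt 8` -/
theorem perm_six_into_alt_eight : ∃ ι : Perm (Fin 6) →* alternatingGroup (Fin 8), Function.Injective ι := by
  let s : Perm (Fin 6) →* Perm (Fin 2) :=
    { toFun := fun σ => if Perm.sign σ = 1 then 1 else swap 0 1
      map_one' := by simp
      map_mul' := fun σ τ => by
        rcases Int.units_eq_one_or (Perm.sign σ) with h | h <;>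
          rcases Int.units_eq_one_or (Perm.sign τ) with h' | h' <;> simp [h, h'] }
  let F : Perm (Fin 6) →* Perm (Fin 8) :=
    (finSumFinEquiv (m := 6) (n := 2)).permCongrHom.toMonoidHom.comp
      ((Perm.sumCongrHom (Fin 6) (Fin 2)).comp ((MonoidHom.id _).prod s))
  have hsign : ∀ σ, F σ ∈ alternatingGroup (Fin 8) := by
    intro σ
    rw [Perm.mem_alternatingGroup]
    show Perm.sign ((finSumFinEquiv (m := 6) (n := 2)).permCongr (Perm.sumCongr σ (s σ))) = 1
    rw [Perm.sign_permCongr, Perm.sign_sumCongr]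
    rcases Int.units_eq_one_or (Perm.sign σ) with h | h <;> simp [s, h]
  refine ⟨F.codRestrict _ hsign, fun a b h => ?_⟩
  have h1 : F a = F b := congrArg Subtype.val h
  have h2 := Perm.sumCongrHom_injective ((finSumFinEquiv (m := 6) (n := 2)).permCongrHom.injective h1)
  exact congrArg Prod.fst h2

end Cfsg.Agent.Lib.RankFive
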