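import Cfsg.Agent.Lib.RankFive.Plane
import Cfsg.Agent.Lib.SectionalRank.Basic

/-!
An extension of an elementary abelian group of order at most 16 by a group inducing `Sym 6` on it has sectional
rank at least five.
-/

set_option autoImplicit false

namespace Cfsg.Agent.Lib.RankFive

open Equiv

/-- three disjoint transpositions -/
def dataOne : Data (Perm (Fin 6)) where
  a := swap 0 1 * swap 1 2
  b := swap 3 4 * swap 4 5
  t₁ := swap 0 1
  t₂ := swap 3 4
  t₃ := swap 2 5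
  g := swap 0 3 * swap 1 4 * swap 2 5
  k := swap 2 3 * swap 4 5
  l := swap 0 3 * swap 1 4 * swap 2 3 * swap 4 5
  ha := by decide +kernel
  hb := by decide +kernel
  ha1 := by decide +kernel
  hab := by decide +kernel
  hab' := by decide +kernel
  comm := by decide +kernel
  h₁ := by decide +kernel
  h₂ := by decide +kernel
  h₁₁ := by decide +kernel
  h₁₂ := by decide +kernel
  h₁₃ := by decide +kernel
  h₂₃ := by decide +kernel
  h₁a := by decide +kernel
  h₁b := by decide +kernel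
  h₂a := by decide +kernel
  hga := by decide +kernel
  hg₁ := by decide +kernel
  hk₁ := by decide +kernel
  hk₂ := by decide +kernel
  hl₁ := by decide +kernel
  hl₂ := by decide +kernel

/-- three products of three disjoint transpositions -/
def dataTwo : Data (Perm (Fin 6)) where
  a := swap 0 1 * swap 1 2 * swap 3 4 * swap 4 5
  b := swap 0 1 * swap 1 2 * swap 3 5 * swap 4 5
  t₁ := swap 0 3 * swap 1 5 * swap 2 4
  t₂ := swap 0 3 * swap 1 4 * swap 2 5
  t₃ := swap 0 3 * swap 1 2 * swap 4 5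
  g := swap 4 5
  k := swap 2 4
  l := swap 2 5 * swap 4 5
  ha := by decide +kernel
  hb := by decide +kernel
  ha1 := by decide +kernel
  hab := by decide +kernel
  hab' := by decide +kernel
  comm := by decide +kernel
  h₁ := by decide +kernel
  h₂ := by decide +kernel
  h₁₁ := by decide +kernel
  h₁₂ := by decide +kernel
  h₁₃ := by decide +kernel
  h₂₃ := by decide +kernel
  h₁a := by decide +kernel
  h₁b := by decide +kernel
  h₂a := by decide +kernel
  hga := by decide +kernel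
  hg₁ := by decide +kernel
  hk₁ := by decide +kernel
  hk₂ := by decide +kernel
  hl₁ := by decide +kernel
  hl₂ := by decide +kernel

/-- products of the three involutions -/
def prods (D : Data (Perm (Fin 6))) (i : Bool × Bool × Bool) : Perm (Fin 6) :=
  (if i.1 then D.t₁ else 1) * (if i.2.1 then D.t₂ else 1) * (if i.2.2 then D.t₃ else 1)

theorem prods_one : Function.Injective (prods dataOne) := by decide +kernel

theorem prods_two : Function.Injective (prods dataTwo) := by decide +kernel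

/-- the rank-five section -/
theorem false_of_data {X Y : Type*} [Group X] [Group Y] [Finite Y]
    (hr : Cfsg.SectionalPRankLE 2 4 X) (π : X →* Y) (hπ : Function.Surjective π) (W : Subgroup Y) [W.Normal]
    (hWc : ∀ a b : W, a * b = b * a) (hW2 : ∀ a : W, a * a = 1) (h16 : Nat.card W ≤ 16)
    (ψ : Perm (Fin 6) →* MulAut W) (hψ : Function.Injective ψ)
    (hlift : ∀ σ, ∃ y : Y, MulAut.conjNormal y = ψ σ) (hker : ∀ y : Y, MulAut.conjNormal y = (1 : MulAut W) → y ∈ W)
    (D : Data (Perm (Fin 6))) (hD : Function.Injective (prods D))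
    (hfix : ∀ inst : CommGroup W, ∃ w : W, w ≠ 1 ∧ ψ D.a w = w) : False := by
  classical
  letI cg : CommGroup W := { (inferInstance : Group W) with mul_comm := hWc }
  obtain ⟨w₀, hw₀, hw₀'⟩ := hfix cg
  obtain ⟨L, hL4, hW16, hLt, h12, h13, h23, hsq⟩ :=
    plane (W := W) hW2 h16 (D.map ψ hψ) (fun h => hw₀ (Subgroup.mem_bot.1 (h ▸ (hw₀' : w₀ ∈ fix _))))
  change ∀ e ∈ ({ψ D.t₁, ψ D.t₂, ψ D.t₃} : Set (MulAut W)), L ≤ fix e ∧ ∀ w, delta e w ∈ L at hLt
  change fix (ψ D.t₁) ⊓ fix (ψ D.t₂) ≤ L at h12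
  change fix (ψ D.t₁) ⊓ fix (ψ D.t₃) ≤ L at h13
  change fix (ψ D.t₂) ⊓ fix (ψ D.t₃) ≤ L at h23
  change ∀ s ∈ fix (ψ D.t₁), delta (ψ D.b) s ∈ (delta (ψ D.t₁)).range →
    s ∈ L ∧ ψ D.g s ∈ L ∧ ψ D.k (ψ D.g s) ∈ L at hsq
  obtain ⟨y₁, hy₁⟩ := hlift D.t₁
  obtain ⟨x, hx⟩ := hlift D.b
  obtain ⟨G, hG⟩ := hlift D.g
  obtain ⟨Kx, hKx⟩ := hlift D.k
  set y₂ := G * y₁ * G⁻¹ with hy₂d
  set y₃ := Kx * y₂ * Kx⁻¹ with hy₃d
  have hy₂ : MulAut.conjNormal y₂ = ψ D.t₂ := by
    rw [hy₂d, map_mul, map_mul, map_inv, hG, hy₁, ← map_inv, ← map_mul, ← map_mul, D.hg₁]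
  have hy₃ : MulAut.conjNormal y₃ = ψ D.t₃ := by
    rw [hy₃d, map_mul, map_mul, map_inv, hKx, hy₂, ← map_inv, ← map_mul, ← map_mul, D.hk₂]
  -- the squares
  have hs₁W : y₁ * y₁ ∈ W := hker _ (by rw [map_mul, hy₁, ← map_mul, ← pow_two, D.h₁, map_one])
  set s : W := ⟨y₁ * y₁, hs₁W⟩ with hs
  have hsfix : s ∈ fix (ψ D.t₁) := by
    rw [mem_fix, ← hy₁]
    apply Subtype.ext
    rw [MulAut.conjNormal_apply]
    show y₁ * (y₁ * y₁) * y₁⁻¹ = y₁ * y₁
    group
  have hwW : x * y₁ * x⁻¹ * y₁⁻¹ ∈ W := hker _ (by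
    rw [map_mul, map_mul, map_mul, map_inv, map_inv, hx, hy₁, ← map_inv, ← map_inv, ← map_mul, ← map_mul,
      ← map_mul, ← D.h₁b]
    group
    rw [map_one])
  set w : W := ⟨x * y₁ * x⁻¹ * y₁⁻¹, hwW⟩ with hw
  have hbs : ψ D.b s = w * ψ D.t₁ w * s := by
    rw [← hx, ← hy₁]
    apply Subtype.ext
    simp only [Subgroup.coe_mul, MulAut.conjNormal_apply, hs, hw]
    group
  obtain ⟨hsL, hgsL, hkgsL⟩ := hsq s hsfix ⟨w, by
    rw [delta_apply, delta_apply, hbs, mul_assoc, hW2, mul_one, mul_comm]⟩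
  have hs₂ : ((ψ D.g s : W) : Y) = y₂ * y₂ := by
    rw [← hG, MulAut.conjNormal_apply]
    show G * (y₁ * y₁) * G⁻¹ = _
    rw [hy₂d]
    group
  have hs₃ : ((ψ D.k (ψ D.g s) : W) : Y) = y₃ * y₃ := by
    rw [← hKx, MulAut.conjNormal_apply, hs₂, hy₃d]
    group
  -- the centraliser of the plane
  set L' : Subgroup Y := L.map W.subtype with hL'
  set C := Subgroup.centralizer (L' : Set Y) with hC
  have hmemL : ∀ w : W, (w : Y) ∈ L' ↔ w ∈ L := fun w =>
    ⟨fun ⟨w', hw', he⟩ => W.subtype_injective he ▸ hw', fun h => ⟨w, h, rfl⟩⟩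
  have hWC : W ≤ C := by
    intro z hz
    rw [hC, Subgroup.mem_centralizer_iff]
    rintro _ ⟨l, -, rfl⟩
    exact congrArg Subtype.val (hWc l ⟨z, hz⟩)
  have hyC : ∀ (y : Y) (e : MulAut W), MulAut.conjNormal y = e → L ≤ fix e → y ∈ C := by
    intro y e he hLe
    rw [hC, Subgroup.mem_centralizer_iff]
    rintro _ ⟨l, hl, rfl⟩
    have h1 := congrArg Subtype.val (mem_fix.1 (hLe hl))
    rw [← he, MulAut.conjNormal_apply] at h1
    exact (mul_inv_eq_iff_eq_mul.1 h1).symm
  have m₁ := hLt _ (Set.mem_insert _ _)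
  have m₂ := hLt _ (Set.mem_insert_of_mem _ (Set.mem_insert _ _))
  have m₃ := hLt _ (Set.mem_insert_of_mem _ (Set.mem_insert_of_mem _ rfl))
  have c₁ := hyC _ _ hy₁ m₁.1
  have c₂ := hyC _ _ hy₂ m₂.1
  have c₃ := hyC _ _ hy₃ m₃.1
  set Z := L'.subgroupOf C with hZ
  haveI : Z.Normal := by
    refine ⟨fun n hn g => ?_⟩
    have h1 : (n : Y) * g = g * n := Subgroup.mem_centralizer_iff.1 g.2 _ hn
    rw [show g * n * g⁻¹ = n from mul_inv_eq_of_eq_mul (Subtype.ext h1.symm)]
    exact hn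
  let q := QuotientGroup.mk' Z
  have hq1 : ∀ (z : C), (z : Y) ∈ L' → q z = 1 := fun z hz => (QuotientGroup.eq_one_iff _).2 hz
  have comm_of : ∀ (y z : Y) (t u : MulAut W) (hy : y ∈ C) (hz : z ∈ C), MulAut.conjNormal y = t →
      MulAut.conjNormal z = u → t * u = u * t → fix t ⊓ fix u ≤ L → y * y ∈ L' → z * z ∈ L' →
      L ≤ fix t → L ≤ fix u → Commute (q ⟨y, hy⟩) (q ⟨z, hz⟩) := by
    intro y z t u hy hz hyt hzu htu hinf hyy hzz hLt' hLu
    have hcW : y * z * y⁻¹ * z⁻¹ ∈ W := hker _ (by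
      rw [map_mul, map_mul, map_mul, map_inv, map_inv, hyt, hzu, htu]
      group)
    set c : W := ⟨y * z * y⁻¹ * z⁻¹, hcW⟩ with hc
    obtain ⟨sy, hsy, hsye⟩ := hyy
    obtain ⟨sz, hsz, hsze⟩ := hzz
    replace hsye : (sy : Y) = y * y := hsye
    replace hsze : (sz : Y) = z * z := hsze
    have hty : t sz = sz := hLt' hsz
    have hzy : u sy = sy := hLu hsy
    rw [← hyt] at hty
    rw [← hzu] at hzy
    have hty' := congrArg Subtype.val hty
    have hzy' := congrArg Subtype.val hzy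
    rw [MulAut.conjNormal_apply, hsze] at hty'
    rw [MulAut.conjNormal_apply, hsye] at hzy'
    have hcu : u c = c := by
      have h2' : c * u c = 1 := by
        rw [← hzu]
        apply Subtype.ext
        rw [Subgroup.coe_mul, MulAut.conjNormal_apply]
        show y * z * y⁻¹ * z⁻¹ * (z * (y * z * y⁻¹ * z⁻¹) * z⁻¹) = 1
        calc _ = (y * (z * z) * y⁻¹) * (z * z)⁻¹ := by group
          _ = 1 := by rw [hty', mul_inv_cancel]
      exact ((sq_eq_one_iff_eq hW2).1 h2').symm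
    have hct : t c = c := by
      have h2' : t c * c = 1 := by
        rw [← hyt]
        apply Subtype.ext
        rw [Subgroup.coe_mul, MulAut.conjNormal_apply]
        show y * (y * z * y⁻¹ * z⁻¹) * y⁻¹ * (y * z * y⁻¹ * z⁻¹) = 1
        calc _ = (y * y) * (z * (y * y)⁻¹ * z⁻¹) := by group
          _ = (y * y) * (z * (y * y) * z⁻¹)⁻¹ := by group
          _ = 1 := by rw [hzy', mul_inv_cancel]
      exact (sq_eq_one_iff_eq hW2).1 h2'
    have hcL : y * z * y⁻¹ * z⁻¹ ∈ L' := (hmemL c).2 (hinf ⟨hct, hcu⟩)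
    have h1 := hq1 (⟨y, hy⟩ * ⟨z, hz⟩ * (⟨y, hy⟩ : C)⁻¹ * (⟨z, hz⟩ : C)⁻¹) hcL
    rw [map_mul, map_mul, map_mul, map_inv, map_inv, mul_inv_eq_one, mul_inv_eq_iff_eq_mul] at h1
    exact h1
  have s₁ : y₁ * y₁ ∈ L' := (hmemL s).2 hsL
  have s₂ : y₂ * y₂ ∈ L' := hs₂ ▸ (hmemL _).2 hgsL
  have s₃ : y₃ * y₃ ∈ L' := hs₃ ▸ (hmemL _).2 hkgsL
  let z₁ : C := ⟨y₁, c₁⟩
  let z₂ : C := ⟨y₂, c₂⟩
  let z₃ : C := ⟨y₃, c₃⟩
  let incl : W →* C := Subgroup.inclusion hWC
  let S : Set (C ⧸ Z) := Set.range (fun v : W => q (incl v)) ∪ {q z₁, q z₂, q z₃}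
  have hwy : ∀ (y : Y) (t : MulAut W) (hy : y ∈ C), MulAut.conjNormal y = t → (∀ v, delta t v ∈ L) →
      ∀ v : W, Commute (q ⟨y, hy⟩) (q (incl v)) := by
    intro y t hy ht hd v
    have h1 := hq1 (⟨y, hy⟩ * incl v * (⟨y, hy⟩ : C)⁻¹ * (incl v)⁻¹) (by
      have h := hd v
      rw [delta_apply, ← ht] at h
      have hv : v = v⁻¹ := eq_inv_of_mul_eq_one_left (hW2 v)
      nth_rewrite 2 [hv] at h
      exact (hmemL _).2 h)
    rw [map_mul, map_mul, map_mul, map_inv, map_inv, mul_inv_eq_one, mul_inv_eq_iff_eq_mul] at h1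
    exact h1
  have hww : ∀ v v' : W, Commute (q (incl v)) (q (incl v')) := fun v v' => by
    show q (incl v) * q (incl v') = q (incl v') * q (incl v)
    rw [← map_mul, ← map_mul, ← map_mul, ← map_mul, hWc]
  have k₁₂ : Commute (q z₁) (q z₂) := comm_of y₁ y₂ _ _ c₁ c₂ hy₁ hy₂ (by rw [← map_mul, D.h₁₂, map_mul]) h12 s₁ s₂ m₁.1 m₂.1
  have k₁₃ : Commute (q z₁) (q z₃) := comm_of y₁ y₃ _ _ c₁ c₃ hy₁ hy₃ (by rw [← map_mul, D.h₁₃, map_mul]) h13 s₁ s₃ m₁.1 m₃.1
  have k₂₃ : Commute (q z₂) (q z₃) := comm_of y₂ y₃ _ _ c₂ c₃ hy₂ hy₃ (by rw [← map_mul, D.h₂₃, map_mul]) h23 s₂ s₃ m₂.1 m₃.1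
  have hScomm : ∀ a ∈ S, ∀ b ∈ S, a * b = b * a := by
    rintro _ (⟨v, rfl⟩ | rfl | rfl | rfl) _ (⟨v', rfl⟩ | rfl | rfl | rfl)
    all_goals first
      | rfl
      | exact hww v v'
      | exact k₁₂
      | exact k₁₂.symm
      | exact k₁₃
      | exact k₁₃.symm
      | exact k₂₃
      | exact k₂₃.symm
      | exact hwy _ _ c₁ hy₁ m₁.2 v'
      | exact hwy _ _ c₂ hy₂ m₂.2 v'
      | exact hwy _ _ c₃ hy₃ m₃.2 v'
      | exact (hwy _ _ c₁ hy₁ m₁.2 v).symm
      | exact (hwy _ _ c₂ hy₂ m₂.2 v).symm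
      | exact (hwy _ _ c₃ hy₃ m₃.2 v).symm
  have hSsq : ∀ a ∈ S, a * a = 1 := by
    rintro _ (⟨v, rfl⟩ | rfl | rfl | rfl)
    · show q (incl v) * q (incl v) = 1
      rw [← map_mul, ← map_mul, hW2, map_one, map_one]
    · exact (map_mul q z₁ z₁).symm.trans (hq1 _ s₁)
    · exact (map_mul q z₂ z₂).symm.trans (hq1 _ s₂)
    · exact (map_mul q z₃ z₃).symm.trans (hq1 _ s₃)
  set A := Subgroup.closure S with hA
  have hAc : ∀ a ∈ A, ∀ b ∈ A, a * b = b * a := by
    intro a ha b hb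
    have h1 : A ≤ Subgroup.centralizer S := by
      rw [hA, Subgroup.closure_le]
      exact fun a ha => Subgroup.mem_centralizer_iff.2 fun b hb => hScomm b hb a ha
    have h2 : A ≤ Subgroup.centralizer (A : Set (C ⧸ Z)) := by
      conv_lhs => rw [hA]
      rw [Subgroup.closure_le]
      exact fun a ha => Subgroup.mem_centralizer_iff.2 fun b hb => (Subgroup.mem_centralizer_iff.1 (h1 hb) a ha).symm
    exact Subgroup.mem_centralizer_iff.1 (h2 hb) a ha
  have hAe : Cfsg.IsElementaryAbelian 2 A := by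
    refine ⟨⟨⟨fun a b => Subtype.ext (hAc _ a.2 _ b.2)⟩⟩, fun a ha => ?_⟩
    rw [pow_two]
    refine Subgroup.closure_induction (p := fun a _ => a * a = 1) hSsq (one_mul 1)
      (fun a b ha hb e e' => ?_) (fun a ha e => ?_) ha
    · calc a * b * (a * b) = a * (b * a) * b := by group
        _ = a * (a * b) * b := by rw [hAc b hb a ha]
        _ = (a * a) * (b * b) := by group
        _ = 1 := by rw [e, e', one_mul]
    · rw [← mul_inv_rev, e, inv_one]
  have hle := SectionalRank.card_le hr (C.comap π)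
    (q.comp ((π.comp (C.comap π).subtype).codRestrict C fun z => z.2)) A (fun a _ => by
      obtain ⟨⟨c, hc⟩, rfl⟩ := QuotientGroup.mk_surjective a
      obtain ⟨z, rfl⟩ := hπ c
      exact ⟨⟨z, hc⟩, rfl⟩) hAe
  -- counting
  have hmem : ∀ (v : W) (i : Bool × Bool × Bool),
      q (incl v * ((if i.1 then z₁ else 1) * (if i.2.1 then z₂ else 1) * (if i.2.2 then z₃ else 1))) ∈ A := by
    intro v i
    have hS : ∀ z ∈ S, z ∈ A := fun z hz => Subgroup.subset_closure hz
    rw [map_mul, map_mul, map_mul]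
    refine mul_mem (hS _ (Or.inl ⟨v, rfl⟩)) (mul_mem (mul_mem ?_ ?_) ?_)
    all_goals split_ifs
    all_goals first
      | exact (map_one q).symm ▸ A.one_mem
      | exact hS _ (Or.inr (Or.inl rfl))
      | exact hS _ (Or.inr (Or.inr (Or.inl rfl)))
      | exact hS _ (Or.inr (Or.inr (Or.inr rfl)))
  let F : W × (Bool × Bool × Bool) → (A.comap q) := fun p => ⟨_, hmem p.1 p.2⟩
  have hF : Function.Injective F := by
    rintro ⟨v, i⟩ ⟨v', i'⟩ h
    have h1 : ((incl v * ((if i.1 then z₁ else 1) * (if i.2.1 then z₂ else 1) * (if i.2.2 then z₃ else 1)) : C) : Y) =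
        ((incl v' * ((if i'.1 then z₁ else 1) * (if i'.2.1 then z₂ else 1) * (if i'.2.2 then z₃ else 1)) : C) : Y) :=
      congrArg (fun z : ↥(A.comap q) => ((z : C) : Y)) h
    have key : ∀ (v : W) (i : Bool × Bool × Bool), MulAut.conjNormal
        (((incl v * ((if i.1 then z₁ else 1) * (if i.2.1 then z₂ else 1) * (if i.2.2 then z₃ else 1)) : C) : Y)) =
        ψ (prods D i) := by
      intro v i
      have hv : MulAut.conjNormal ((incl v : C) : Y) = (1 : MulAut W) := by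
        refine MulEquiv.ext fun u => Subtype.ext ?_
        rw [MulAut.conjNormal_apply, MulAut.one_apply]
        exact mul_inv_eq_of_eq_mul (congrArg Subtype.val (hWc v u))
      simp only [Subgroup.coe_mul, map_mul, hv, one_mul, prods]
      obtain ⟨i, j, k⟩ := i
      cases i <;> cases j <;> cases k <;> simp [z₁, z₂, z₃, hy₁, hy₂, hy₃]
    have hi : i = i' := hD (hψ (by rw [← key v i, ← key v' i', h1]))
    subst hi
    have hv := mul_right_cancel h1
    exact Prod.ext (Subtype.ext hv) rfl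
  have h128 := Nat.card_le_card_of_injective F hF
  rw [Nat.card_prod, hW16, show Nat.card (Bool × Bool × Bool) = 8 by simp] at h128
  have hcomap : Nat.card (A.comap q) ≤ Nat.card A * Nat.card Z := by
    let r : (A.comap q) →* A := (q.comp (A.comap q).subtype).codRestrict A fun z => z.2
    rw [← r.ker.card_mul_index, Subgroup.index_ker, mul_comm]
    refine Nat.mul_le_mul (Subgroup.card_le_card_group _) ?_
    refine Nat.card_le_card_of_injective (fun z : r.ker => (⟨((z : A.comap q) : C), ?_⟩ : Z)) ?_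
    · have : q ((z : A.comap q) : C) = 1 := congrArg Subtype.val z.2
      exact (QuotientGroup.eq_one_iff _).1 this
    · intro a b h
      exact Subtype.ext (Subtype.ext (congrArg (fun z : Z => (z : C)) h))
  have hZ4 : Nat.card Z ≤ 4 := by
    refine (Nat.card_le_card_of_injective (fun z : Z => (⟨((z : C) : Y), z.2⟩ : L')) fun a b h => ?_).trans ?_
    · exact Subtype.ext (Subtype.ext (congrArg Subtype.val h :))
    · rw [hL', Subgroup.card_map_of_injective W.subtype_injective, hL4]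
  have h5 : Nat.card (A.comap q) ≤ 16 * 4 := hcomap.trans (Nat.mul_le_mul (hle.trans (by norm_num)) hZ4)
  omega

/-- `Sym 6` induced on an elementary abelian normal subgroup of order at most 16 -/
theorem false_of_six {X Y : Type*} [Group X] [Group Y] [Finite Y]
    (hr : Cfsg.SectionalPRankLE 2 4 X) (π : X →* Y) (hπ : Function.Surjective π) (W : Subgroup Y) [W.Normal]
    (hWc : ∀ a b : W, a * b = b * a) (hW2 : ∀ a : W, a * a = 1) (h16 : Nat.card W ≤ 16)
    (ψ : Perm (Fin 6) →* MulAut W) (hψ : Function.Injective ψ)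
    (hlift : ∀ σ, ∃ y : Y, MulAut.conjNormal y = ψ σ)
    (hker : ∀ y : Y, MulAut.conjNormal y = (1 : MulAut W) → y ∈ W) : False := by
  classical
  haveI : Nontrivial W := by
    rw [← not_subsingleton_iff_nontrivial]
    intro h
    have h1 : ψ (swap 0 1) = ψ 1 := MulEquiv.ext fun x => Subsingleton.elim _ _
    exact absurd (hψ h1) (by decide +kernel)
  letI cg : CommGroup W := { (inferInstance : Group W) with mul_comm := hWc }
  have transfer : ∀ {g e e' : Perm (Fin 6)}, g * e * g⁻¹ = e' → fix (ψ e) ≠ ⊥ →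
      ∃ w : W, w ≠ 1 ∧ ψ e' w = w := by
    intro g e e' h hne
    obtain ⟨w, hw, hw1⟩ : ∃ w ∈ fix (ψ e), w ≠ 1 := by
      by_contra hh
      push Not at hh
      exact hne (eq_bot_iff.2 fun w hw => Subgroup.mem_bot.2 (hh w hw))
    refine ⟨ψ g w, fun hh => hw1 ((ψ g).injective (hh.trans (map_one _).symm)), ?_⟩
    exact (conj_fix (g := ψ g) (e := ψ e) (e' := ψ e')
      (by rw [← map_inv, ← map_mul, ← map_mul, h]) w).2 hw
  rcases exists_fix (W := W) hW2 (a := ψ dataOne.a) (b := ψ dataOne.b)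
    (by rw [← map_pow, dataOne.ha, map_one]) (by rw [← map_pow, dataOne.hb, map_one])
    (by rw [← map_mul, dataOne.comm, map_mul]) with h | h | h | h
  · exact false_of_data hr π hπ W hWc hW2 h16 ψ hψ hlift hker dataOne prods_one
      fun _ => transfer (g := 1) (by decide +kernel) h
  · exact false_of_data hr π hπ W hWc hW2 h16 ψ hψ hlift hker dataOne prods_one
      fun _ => transfer (g := dataOne.g⁻¹) (by decide +kernel) h
  · rw [← map_mul] at h
    exact false_of_data hr π hπ W hWc hW2 h16 ψ hψ hlift hker dataTwo prods_two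
      fun _ => transfer (g := 1) (by decide +kernel) h
  · rw [← map_inv, ← map_mul] at h
    exact false_of_data hr π hπ W hWc hW2 h16 ψ hψ hlift hker dataTwo prods_two
      fun _ => transfer (g := swap 1 2) (by decide +kernel) h

end Cfsg.Agent.Lib.RankFive
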